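import Cfsg.Agent.LV.Lift.Main

/-!
# LV, the lifting theorem as a bijection onto the stable characters (helper12)
-/

set_option autoImplicit false
set_option linter.unusedSectionVars false

namespace Cfsg.Agent.LV.Lift

open Cfsg Cfsg.Agent.DL Cfsg.Agent.DL.PP Cfsg.Agent.DL.Uni Cfsg.Agent.DL.Asm Cfsg.Agent.Nodes.Reps Matrix
  Cfsg.Agent.DL.Mk Cfsg.Agent.Nodes.BNOf Cfsg.Agent.Characters.Core Cfsg.Agent.KZ.Lie
  Cfsg.Agent.H593.GlaubermanP

variable {p : ℕ} [Fact p.Prime] {k : Type} [Field k] [CharP k p] {Y : Type} [Group Y] {N : Type} [Fintype N]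
  [DecidableEq N] {ρ : Y →* GL N k} {F : MulAut Y} {G : Subgroup Y} [IsAlgClosed k] {D : Datum p ρ F G}
  {d e l j : ℕ} {y : Y} {w : D.W} {c : Lbl D} {θ : Y → ℂ}

section abs

variable {H K : Type} [Group H] [Fintype H] [Group K] [Fintype K] [Fact l.Prime] {φ : MulAut H} {ι : K →* H}

theorem inv_zpowers {α : Type} (f : H → α) (hf : ∀ g, f (φ g) = f g) (s : Subgroup.zpowers φ) (g : H) :
    f (s • g) = f g := by
  obtain ⟨s, hs⟩ := s
  obtain ⟨n, rfl⟩ := (mem_powers_iff_mem_zpowers.2 hs : s ∈ Submonoid.powers φ)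
  show f ((φ ^ n) g) = f g
  clear hs
  induction n with
  | zero => rfl
  | succ n ih => rw [pow_succ', MulAut.mul_apply, hf, ih]

theorem setup (hφ : φ ^ l = 1) (hι : Function.Injective ι) (hfix : ∀ g, φ g = g ↔ ∃ c, ι c = g)
    (hK : ¬ l ∣ Nat.card K) : Setup (Subgroup.zpowers φ) ι l := by
  have hfx : ∀ g : H, (∀ s : Subgroup.zpowers φ, s • g = g) ↔ ∃ c, ι c = g := fun g => by
    rw [← hfix]
    refine ⟨fun h => h ⟨φ, Subgroup.mem_zpowers φ⟩, ?_⟩
    rintro h ⟨s, hs⟩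
    obtain ⟨n, rfl⟩ := (mem_powers_iff_mem_zpowers.2 hs : s ∈ Submonoid.powers φ)
    exact Cfsg.Agent.DL.Mk.pow_fix h n
  have hp : IsPGroup l (Subgroup.zpowers φ) := by
    rintro ⟨s, n, rfl⟩
    exact ⟨1, Subtype.ext (by
      show (φ ^ n) ^ l ^ 1 = 1
      rw [pow_one, ← _root_.zpow_natCast, ← _root_.zpow_mul, mul_comm, _root_.zpow_mul, _root_.zpow_natCast, hφ,
        _root_.one_zpow])⟩
  exact ⟨hι, hfx, hp, fun h => hK (by
    have h1 := hp.card_modEq_card_fixedPoints H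
    have h2 : Nat.card (MulAction.fixedPoints (Subgroup.zpowers φ) H) = Nat.card K :=
      (Nat.card_congr (Equiv.ofBijective
        (fun c => (⟨ι c, (hfx _).2 ⟨c, rfl⟩⟩ : MulAction.fixedPoints (Subgroup.zpowers φ) H))
        ⟨fun a b e => hι (congrArg Subtype.val e), fun g => let ⟨c, hc⟩ := (hfx g).1 g.2; ⟨c, Subtype.ext hc⟩⟩)).symm
    rw [h2] at h1
    exact (h1.dvd_iff dvd_rfl).1 h)⟩

/-- the Glauberman correspondence -/
theorem exists_bij (hS : Setup (Subgroup.zpowers φ) ι l) : ∃ e : IrrCharacter K → IrrCharacter H, Function.Injective e ∧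
    (∀ χ : IrrCharacter H, (∀ g, (χ : H → ℂ) (φ g) = (χ : H → ℂ) g) ↔ χ ∈ Set.range e) ∧
    ∀ β : IrrCharacter K, ∃ n : ℕ, ¬ l ∣ n ∧ classInner ((e β : H → ℂ) ∘ ι) (β : K → ℂ) = n := by
  obtain ⟨M, hM⟩ := Cfsg.Agent.Blocks.ExistsModular.exists_isPModular (Fact.out : l.Prime)
  choose e h1 h2 using exists_chi hS hM
  refine ⟨e, fun a b h => unique_beta hS hM (h1 a) (h2 a) (h ▸ h2 b), fun χ => ⟨fun h => ?_, ?_⟩, fun β => ?_⟩
  · obtain ⟨β, hβ⟩ := exists_beta hS hM χ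
    exact ⟨β, unique_chi hS hM (h1 β) (inv_zpowers _ h) (h2 β) hβ⟩
  · rintro ⟨β, rfl⟩ g
    exact h1 β ⟨φ, Subgroup.mem_zpowers φ⟩ g
  · obtain ⟨m, hm⟩ := exists_mult (ι := ι) (e β) β
    exact ⟨m, fun h => h2 β ((good_iff hS hM hm).2 h), hm⟩

theorem glaub_mult (ψ : ℂ →+* ℂ_[l]) (hS : Setup (Subgroup.zpowers φ) ι l) {β : K → ℂ} (hβ : IsIrrCharacter K β)
    (χ : IrrCharacter H) (h0 : ∀ g, (χ : H → ℂ) (φ g) = (χ : H → ℂ) g) {r : ℕ} (hr : ¬ l ∣ r)
    (hr' : classInner ((χ : H → ℂ) ∘ ι) β = r) : ∃ ε : ℤ, (ε = 1 ∨ ε = -1) ∧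
      ∀ (R : H → ℂ) (R₀ : K → ℂ), IsGeneralizedCharacter H R → (∀ g, R (φ g) = R g) → (∀ c, Sm ψ (R (ι c) - R₀ c)) →
        ∀ a b : ℤ, classInner R χ = a → classInner R₀ β = b → (l : ℤ) ∣ b - ε * a := by
  classical
  have hl : l.Prime := Fact.out
  have hp := hS.pgroup
  have hK := hS.ndvd'
  have hinv := @inv_zpowers H _ _ φ
  have h1 : Inv (Subgroup.zpowers φ) (χ : H → ℂ) := inv_zpowers _ h0
  obtain ⟨M, hM⟩ := Cfsg.Agent.Blocks.ExistsModular.exists_isPModular hl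
  have h2 := mt (good_iff hS hM (β := ⟨β, hβ⟩) hr').1 hr
  choose m hm using fun χ : IrrCharacter H => exists_mult (ι := ι) χ ⟨β, hβ⟩
  obtain ⟨ε, hε, h3⟩ : ∃ ε : ℤ, (ε = 1 ∨ ε = -1) ∧ (m χ : ℤ) ≡ ε [ZMOD l] := by
    rcases mult_modEq hS hM h1 (hm χ) fun h => h2 ((good_iff hS hM (hm χ)).2 h) with h | h
    · exact ⟨1, Or.inl rfl, h⟩
    · exact ⟨-1, Or.inr rfl, h⟩
  refine ⟨ε, hε, fun R R₀ hR hRφ hc a b ha hb => ?_⟩
  have : Finite (IrrCharacter H) := finite_irr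
  have := Fintype.ofFinite (IrrCharacter H)
  let _ : MulAction (Subgroup.zpowers φ) (IrrCharacter H) := actIrr _
  have hact : ∀ (s : Subgroup.zpowers φ) (χ : IrrCharacter H) (g : H),
      ((s • χ : IrrCharacter H) : H → ℂ) g = (χ : H → ℂ) (s⁻¹ • g) := fun _ _ _ => rfl
  obtain ⟨n, hn⟩ := isGeneralizedCharacter_iff.1 hR
  have h4 : ∀ χ : IrrCharacter H, classInner R χ = n χ := fun χ => by rw [hn, classInner_sum_zsmul_irr]
  obtain ⟨c, h5⟩ := Cfsg.Agent.Blocks.OrbitSum.sum_eq_sum_fixed_add_smul hp (fun χ : IrrCharacter H => n χ * m χ)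
    fun s χ => by
      have e1 : n (s • χ) = n χ := by
        apply Int.cast_injective (α := ℂ)
        rw [← h4, ← h4, classInner, classInner, ← Equiv.sum_comp (MulAction.toPerm s)]
        simp only [MulAction.toPerm_apply, hact, inv_smul_smul, hinv R hRφ]
      have e2 : m (s • χ) = m χ := by
        apply Nat.cast_injective (R := ℂ)
        rw [← hm, ← hm]
        congr 1
        funext c
        rw [Function.comp_apply, hact, hS.smul, Function.comp_apply]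
      rw [e1, e2]
  have h6 : classInner (R ∘ ι) β = ((∑ χ : IrrCharacter H, n χ * m χ : ℤ) : ℂ) := by
    have : R ∘ ι = ∑ χ : IrrCharacter H, (n χ : ℂ) • ((χ : H → ℂ) ∘ ι) := by
      funext c
      rw [hn]
      simp
    rw [this, classInner_sum_left]
    push_cast
    exact Finset.sum_congr rfl fun χ _ => by rw [classInner_smul_left, hm χ]
  have h7 : (l : ℤ) ∣ (∑ χ : IrrCharacter H, n χ * m χ) - b := by
    refine dvd_of_sm (ψ := ψ) ((sm_inner hK hβ (R := R ∘ ι - R₀) hc).of_eq ?_)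
    rw [classInner_sub_left, h6, hb, Int.cast_sub]
  have h8 : χ ∈ Finset.univ.filter (· ∈ MulAction.fixedPoints (Subgroup.zpowers φ) (IrrCharacter H)) :=
    Finset.mem_filter.2 ⟨Finset.mem_univ _, fun s => Subtype.ext (funext fun g => by rw [hact, h1])⟩
  rw [← Finset.add_sum_erase _ _ h8] at h5
  have h9 : (l : ℤ) ∣ ∑ χ' ∈ (Finset.univ.filter
      (· ∈ MulAction.fixedPoints (Subgroup.zpowers φ) (IrrCharacter H))).erase χ, n χ' * m χ' := by
    refine Finset.dvd_sum fun χ' h => Dvd.dvd.mul_left (Int.natCast_dvd_natCast.2 ?_) _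
    by_contra h'
    refine (Finset.mem_erase.1 h).1 (unique_chi hS hM (fun s g => ?_) h1
      (fun h'' => h' ((good_iff hS hM (hm χ')).1 h'')) h2)
    have e := hact s χ' (s • g)
    rwa [(Finset.mem_filter.1 (Finset.mem_erase.1 h).2).2 s, inv_smul_smul] at e
  have h10 : n χ = a := Int.cast_injective (α := ℂ) (by rw [← h4, ha])
  obtain ⟨x, hx⟩ := h3.dvd
  obtain ⟨y, hy⟩ := h7
  obtain ⟨z, hz⟩ := h9
  rw [hz, h10, nsmul_eq_mul] at h5
  exact ⟨z + c - y - a * x, by linear_combination h5 - hy - a * hx⟩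

end abs

variable {f : Fr D}

theorem le_pow (l : ℕ) : GF F G ≤ GF (F ^ l) G := fun _ hg => ⟨hg.1, pow_fix hg.2 l⟩

theorem exists_setup (hl : Lp f l) [Fintype ↥(GF F G)] [Fintype ↥(GF (F ^ l) G)] :
    ∃ φ : MulAut (GF (F ^ l) G), (∀ g, (φ g : Y) = F g) ∧
      Setup (Subgroup.zpowers φ) (Subgroup.inclusion (le_pow (F := F) (G := G) l)) l := by
  have : Fact l.Prime := ⟨hl.prime⟩
  let φ₀ : GF (F ^ l) G →* GF (F ^ l) G := (F.toMonoidHom.comp (GF (F ^ l) G).subtype).codRestrict _ fun g =>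
    mem_GF.2 ⟨D.F_mem_G g.2.1, (pow_comm_apply F l g).trans (congrArg F g.2.2)⟩
  let φ : MulAut (GF (F ^ l) G) := MulEquiv.ofBijective φ₀ (Finite.injective_iff_bijective.1 fun a b h =>
    Subtype.ext (F.injective (congrArg Subtype.val h)))
  have hφ : ∀ n g, ((φ ^ n) g : Y) = (F ^ n) g := fun n g => by
    induction n with
    | zero => rfl
    | succ n ih => rw [pow_succ_apply, pow_succ_apply, ← ih]; rfl
  exact ⟨φ, fun _ => rfl, setup (MulEquiv.ext fun g => Subtype.ext ((hφ l g).trans g.2.2))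
    (Subgroup.inclusion_injective _)
    (fun g => ⟨fun h => ⟨⟨g, g.2.1, congrArg Subtype.val h⟩, rfl⟩, fun ⟨c, h⟩ => h ▸ Subtype.ext c.2.2⟩) hl.ndvd⟩

/-- the multiplicities of a Glauberman correspondent -/
theorem lift_of (hl : Lp f l) [Fintype ↥(GF F G)] [Fintype ↥(GF (F ^ l) G)] {f' : Fr (D.pow hl.pos)} (h1 : f'.d = f.d)
    (h2 : f'.ζ ^ gs (p ^ f.e) l = f.ζ) {χ : GF F G → ℂ} (hχ : IsIrrCharacter _ χ) {χ' : GF (F ^ l) G → ℂ}
    (h3 : IsIrrCharacter _ χ') (hs : ∀ g g' : GF (F ^ l) G, (g' : Y) = F g → χ' g' = χ' g) {r : ℕ} (hr : ¬ l ∣ r)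
    (hr' : classInner (χ' ∘ Subgroup.inclusion (le_pow l)) χ = r) :
    ∃ ε : ℂ, (ε = 1 ∨ ε = -1) ∧ ∀ w c, classInner χ' (RW f' w c) = ε * classInner χ (RW f w c) := by
  classical
  have : Fact l.Prime := ⟨hl.prime⟩
  obtain ⟨j, hj⟩ := hl.exists_eq
  obtain ⟨ψ⟩ := CF.exists_embedding l
  obtain ⟨φ, hφ, hS⟩ := exists_setup hl
  have h4 : ∀ g, χ' (φ g) = χ' g := fun g => hs _ _ (hφ g)
  obtain ⟨ε, h5, h6⟩ := glaub_mult ψ hS hχ ⟨χ', h3⟩ h4 hr hr'
  refine ⟨ε, by rcases h5 with h | h <;> simp [h], fun w c => ?_⟩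
  obtain ⟨a, ha, ha'⟩ := exists_int h3 (RW_gen f' w c)
  obtain ⟨b, hb, hb'⟩ := exists_int hχ (RW_gen f w c)
  have hW := hl.big
  by_cases hc : Fx D w c
  · have h7 : mon (D.Wm w * D.Mx)ᵀ c = c := eq_of_chr D fun v => by rw [chr_tr, hc]
    have h8 := h6 _ _ (RW_gen f' w c) (fun g => by rw [RW_F hl f' (fx_pow f.L hl.pos hj hc) g _ (hφ g), h7])
      (fun g => res_congr hl ψ h1 h2 hc g _ rfl) a b ha' hb'
    have h9 := abs_le.1 (abs_le_card f' h3 ha)
    have h10 := abs_le.1 (abs_le_card f hχ hb)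
    have h11 : (Nat.card (D.pow hl.pos).W : ℤ) = Nat.card D.W := rfl
    have h12 := Int.eq_zero_of_abs_lt_dvd h8 (abs_lt.2 (by rcases h5 with h | h <;> rw [h] <;> omega))
    rw [ha, hb, show a = ε * b by rcases h5 with h | h <;> rw [h] at h12 ⊢ <;> omega, Int.cast_mul]
  rw [RW_zero f hc, show classInner χ 0 = 0 by simp [classInner], mul_zero]
  by_cases hc' : Fx (D.pow hl.pos) w c
  swap
  · simp [RW_zero f' hc', classInner]
  by_contra h0
  set σ : Lbl D → Lbl D := fun c => mon (D.Wm w * D.Mx)ᵀ c with hσ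
  have k1 : ∀ i v, chr v (σ^[i] c) = chr ((D.Wm w * D.Mx) ^ i *ᵥ v) c := fun i => by
    induction i with
    | zero => intro v; rw [pow_zero, one_mulVec, Function.iterate_zero_apply]
    | succ i ih => intro v; rw [Function.iterate_succ_apply', hσ, chr_tr, ih, pow_succ, mulVec_mulVec]
  have k2 : ∀ v, chr ((D.Wm w * D.Mx) ^ l *ᵥ v) c = chr v c := fun v => by rw [pow_eq f.L hj]; exact hc' v
  have k3 : Function.minimalPeriod σ c = l := Function.minimalPeriod_eq_prime_iff.2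
    ⟨eq_of_chr D fun v => by rw [k1, k2], fun h => hc fun v => by rw [← chr_tr]; exact congrArg _ h⟩
  have k4 : ∀ i, classInner χ' (RW f' w (σ^[i] c)) = a := fun i => by
    induction i with
    | zero => exact ha
    | succ i ih =>
      have k5 : Fx (D.pow hl.pos) w (σ^[i] c) := fun v => by
        refine (congrArg (fun B => chr (B *ᵥ v) (σ^[i] c)) (pow_eq f.L hj w)).symm.trans ?_
        rw [k1, k1, mulVec_mulVec, pow_mul_comm, ← mulVec_mulVec, k2]
      rw [← ih, Function.iterate_succ_apply', classInner, classInner, ← Equiv.sum_comp φ.toEquiv (fun g => χ' g *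
        (starRingEnd ℂ) (RW f' w (σ^[i] c) g))]
      exact congrArg _ (Finset.sum_congr rfl fun g _ => by
        rw [MulEquiv.toEquiv_eq_coe, MulEquiv.coe_toEquiv, h4, RW_F hl f' k5 g _ (hφ g)])
  have k6 := bessel_fin f' h3 w ((Finset.range l).image fun i => σ^[i] c)
  have k9 := Function.iterate_injOn_Iio_minimalPeriod (f := σ) (x := c)
  rw [k3, ← Finset.coe_range] at k9
  rw [Finset.sum_image k9] at k6
  simp only [k4, Finset.sum_const, Finset.card_range, nsmul_eq_mul, Complex.norm_intCast, sq_abs] at k6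
  have k7 : (l : ℤ) * a ^ 2 ≤ Nat.card D.W := by exact_mod_cast k6
  have k8 : 0 < a ^ 2 := sq_pos_of_ne_zero fun h : a = 0 => h0 (by rw [ha, h, Int.cast_zero])
  nlinarith

/-- **The lifting theorem**, as a bijection onto the stable characters. -/
theorem lift_bij (hl : Lp f l) [Fintype ↥(GF F G)] [Fintype ↥(GF (F ^ l) G)] :
    ∃ (f' : Fr (D.pow hl.pos)) (e : IrrCharacter ↥(GF F G) → IrrCharacter ↥(GF (F ^ l) G)), Function.Injective e ∧
      (∀ ψ : IrrCharacter ↥(GF (F ^ l) G),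
        (∀ g g' : GF (F ^ l) G, (g' : Y) = F g → (ψ : GF (F ^ l) G → ℂ) g' = (ψ : GF (F ^ l) G → ℂ) g) ↔
          ψ ∈ Set.range e) ∧
      ∀ χ : IrrCharacter ↥(GF F G), (∃ n : ℕ, ¬ l ∣ n ∧
        classInner ((e χ : GF (F ^ l) G → ℂ) ∘ Subgroup.inclusion (le_pow l)) (χ : GF F G → ℂ) = n) ∧
        ∃ ε : ℂ, (ε = 1 ∨ ε = -1) ∧
          ∀ w c, classInner (e χ : GF (F ^ l) G → ℂ) (RW f' w c) = ε * classInner (χ : GF F G → ℂ) (RW f w c) := by
  have : Fact l.Prime := ⟨hl.prime⟩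
  obtain ⟨f', h1, h2⟩ := hl.exists_fr
  obtain ⟨φ, hφ, hS⟩ := exists_setup hl
  obtain ⟨e, h3, h4, h5⟩ := exists_bij hS
  have h6 : ∀ ψ : IrrCharacter ↥(GF (F ^ l) G),
      (∀ g g' : GF (F ^ l) G, (g' : Y) = F g → (ψ : GF (F ^ l) G → ℂ) g' = (ψ : GF (F ^ l) G → ℂ) g) ↔
        ψ ∈ Set.range e := fun ψ => by
    rw [← h4]
    exact ⟨fun h g => h _ _ (hφ g), fun h g g' hg => by rw [← h g, show g' = φ g from Subtype.ext (hg.trans (hφ g).symm)]⟩
  refine ⟨f', e, h3, h6, fun χ => ⟨h5 χ, ?_⟩⟩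
  obtain ⟨n, h7, h8⟩ := h5 χ
  exact lift_of hl h1 h2 χ.2 (e χ).2 ((h6 _).2 ⟨χ, rfl⟩) h7 h8

variable (f) in
/-- all large primes of a progression are admissible -/
theorem lp_of_large : ∃ B M : ℕ, M ≠ 0 ∧ ∀ l : ℕ, l.Prime → B < l → l ≡ 1 [MOD M] → Lp f l := by
  have := finite_GF D
  have h1 := Nat.one_lt_pow f.L.e_pos.ne' (Fact.out : p.Prime).one_lt
  have h2 : 0 < Nat.card (GF F G) := Nat.card_pos
  exact ⟨p + Nat.card (GF F G) + 2 * Nat.card D.W, f.d * (p ^ f.e - 1), mul_ne_zero f.L.d_pos.ne' (by omega),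
    fun l h3 h4 h5 => ⟨h3, h5, by omega, fun h => by have := Nat.le_of_dvd h2 h; omega, by omega⟩⟩

end Cfsg.Agent.LV.Lift
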