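import Cfsg.Agent.LV.Lift.A
import Cfsg.Agent.DL.Mk.Tor
import Cfsg.Agent.H593.GlaubermanP2
import Cfsg.Agent.Blocks.ExistsModular

/-!
# LV, lifting theorem, part D: the Glauberman correspondence and multiplicities (helper12)
-/

set_option autoImplicit false
set_option linter.unusedSectionVars false

namespace Cfsg.Agent.LV.Lift

open Cfsg Cfsg.Agent.Characters.Core Cfsg.Agent.H593.GlaubermanP Cfsg.Agent.DL.Lef
open scoped ComplexConjugate

theorem exists_int {H : Type*} [Group H] [Fintype H] {χ R : H → ℂ} (hχ : IsIrrCharacter H χ)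
    (hR : IsGeneralizedCharacter H R) : ∃ a : ℤ, classInner χ R = a ∧ classInner R χ = a := by
  have : Finite (IrrCharacter H) := finite_irr
  have := Fintype.ofFinite (IrrCharacter H)
  obtain ⟨n, rfl⟩ := isGeneralizedCharacter_iff.1 hR
  have h := classInner_sum_zsmul_irr n ⟨χ, hχ⟩
  exact ⟨n ⟨χ, hχ⟩, by rw [← classInner_conj_symm, h, map_intCast], h⟩

theorem dvd_of_sm {l : ℕ} [Fact l.Prime] {ψ : ℂ →+* ℂ_[l]} {a : ℤ} (h : Sm ψ a) : (l : ℤ) ∣ a := by
  by_contra h1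
  have h2 := padicComplex_norm_natCast_of_coprime l (n := a.natAbs)
    ((Nat.Prime.coprime_iff_not_dvd Fact.out).2 fun h2 => h1 (Int.natCast_dvd.2 h2))
  have h3 : ‖ψ a‖ < 1 := h
  rcases Int.natAbs_eq a with e | e
  · rw [e, Int.cast_natCast, map_natCast, h2] at h3
    exact lt_irrefl _ h3
  · rw [e, Int.cast_neg, Int.cast_natCast, map_neg, norm_neg, map_natCast, h2] at h3
    exact lt_irrefl _ h3

theorem sm_inner {l : ℕ} [Fact l.Prime] {ψ : ℂ →+* ℂ_[l]} {K : Type*} [Group K] [Fintype K] (hK : ¬ l ∣ Nat.card K)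
    {R β : K → ℂ} (hβ : IsIrrCharacter K β) (h : ∀ c, Sm ψ (R c)) : Sm ψ (classInner R β) := by
  refine Sm.cancel (a := Nat.card K) ?_ ?_
  · rw [map_natCast]
    exact padicComplex_norm_natCast_of_coprime l ((Nat.Prime.coprime_iff_not_dvd Fact.out).2 hK)
  · rw [classInner, mul_inv_cancel_left₀ (Nat.cast_ne_zero.2 Nat.card_pos.ne')]
    refine Sm.sum _ fun c _ => (h c).mul_right (mem_of_isIntegral ?_)
    rw [← isCharacter_apply_inv (isIrr_isCharacter hβ)]
    exact Cfsg.Agent.Blocks.Central.isIntegral_irr hβ _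

/-- the Glauberman correspondent and the multiplicities in invariant generalized characters -/
theorem glaub {H K : Type} [Group H] [Fintype H] [Group K] [Fintype K] {l : ℕ} [Fact l.Prime] (ψ : ℂ →+* ℂ_[l])
    (φ : MulAut H) (hφ : φ ^ l = 1) (ι : K →* H) (hι : Function.Injective ι) (hfix : ∀ g, φ g = g ↔ ∃ c, ι c = g)
    (hK : ¬ l ∣ Nat.card K) {β : K → ℂ} (hβ : IsIrrCharacter K β) :
    ∃ χ : H → ℂ, IsIrrCharacter H χ ∧ (∀ g, χ (φ g) = χ g) ∧ ∃ ε : ℤ, (ε = 1 ∨ ε = -1) ∧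
      ∀ (R : H → ℂ) (R₀ : K → ℂ), IsGeneralizedCharacter H R → (∀ g, R (φ g) = R g) → (∀ c, Sm ψ (R (ι c) - R₀ c)) →
        ∀ a b : ℤ, classInner R χ = a → classInner R₀ β = b → (l : ℤ) ∣ b - ε * a := by
  classical
  have hl : l.Prime := Fact.out
  have hinv : ∀ {α : Type} (f : H → α), (∀ g, f (φ g) = f g) → ∀ (s : Subgroup.zpowers φ) g, f (s • g) = f g := by
    rintro α f hf ⟨s, hs⟩ g
    obtain ⟨n, rfl⟩ := (mem_powers_iff_mem_zpowers.2 hs : s ∈ Submonoid.powers φ)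
    show f ((φ ^ n) g) = f g
    clear hs
    induction n with
    | zero => rfl
    | succ n ih => rw [pow_succ', MulAut.mul_apply, hf, ih]
  have hfx : ∀ g : H, (∀ s : Subgroup.zpowers φ, s • g = g) ↔ ∃ c, ι c = g := fun g => by
    rw [← hfix]
    refine ⟨fun h => h ⟨φ, Subgroup.mem_zpowers φ⟩, ?_⟩
    rintro h ⟨s, hs⟩
    obtain ⟨n, rfl⟩ := (mem_powers_iff_mem_zpowers.2 hs : s ∈ Submonoid.powers φ)
    exact Cfsg.Agent.DL.Mk.pow_fix h n
  have hp : IsPGroup l (Subgroup.zpowers φ) := by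
    rintro ⟨s, n, rfl⟩
    exact ⟨1, Subtype.ext (by
      show (φ ^ n) ^ l ^ 1 = 1
      rw [pow_one, ← zpow_natCast, ← zpow_mul, mul_comm, zpow_mul, zpow_natCast, hφ, one_zpow])⟩
  have hS : Setup (Subgroup.zpowers φ) ι l := ⟨hι, hfx, hp, fun h => hK (by
    have h1 := hp.card_modEq_card_fixedPoints H
    have h2 : Nat.card (MulAction.fixedPoints (Subgroup.zpowers φ) H) = Nat.card K :=
      (Nat.card_congr (Equiv.ofBijective
        (fun c => (⟨ι c, (hfx _).2 ⟨c, rfl⟩⟩ : MulAction.fixedPoints (Subgroup.zpowers φ) H))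
        ⟨fun a b e => hι (congrArg Subtype.val e), fun g => let ⟨c, hc⟩ := (hfx g).1 g.2; ⟨c, Subtype.ext hc⟩⟩)).symm
    rw [h2] at h1
    exact (h1.dvd_iff dvd_rfl).1 h)⟩
  obtain ⟨M, hM⟩ := Cfsg.Agent.Blocks.ExistsModular.exists_isPModular hl
  obtain ⟨χ, h1, h2⟩ := exists_chi hS hM ⟨β, hβ⟩
  choose m hm using fun χ : IrrCharacter H => exists_mult (ι := ι) χ ⟨β, hβ⟩
  obtain ⟨ε, hε, h3⟩ : ∃ ε : ℤ, (ε = 1 ∨ ε = -1) ∧ (m χ : ℤ) ≡ ε [ZMOD l] := by
    rcases mult_modEq hS hM h1 (hm χ) fun h => h2 ((good_iff hS hM (hm χ)).2 h) with h | h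
    · exact ⟨1, Or.inl rfl, h⟩
    · exact ⟨-1, Or.inr rfl, h⟩
  refine ⟨χ, χ.2, fun g => h1 ⟨φ, Subgroup.mem_zpowers φ⟩ g, ε, hε, fun R R₀ hR hRφ hc a b ha hb => ?_⟩
  have : Finite (IrrCharacter H) := finite_irr
  have := Fintype.ofFinite (IrrCharacter H)
  let _ : MulAction (Subgroup.zpowers φ) (IrrCharacter H) := actIrr _
  have hact : ∀ (s : Subgroup.zpowers φ) (χ : IrrCharacter H) (g : H),
      ((s • χ : IrrCharacter H) : H → ℂ) g = (χ : H → ℂ) (s⁻¹ • g) := fun _ _ _ => rfl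
  obtain ⟨n, hn⟩ := isGeneralizedCharacter_iff.1 hR
  have h4 : ∀ χ : IrrCharacter H, classInner R χ = n χ := fun χ => by rw [hn, classInner_sum_zsmul_irr]
  obtain ⟨c, h5⟩ := Cfsg.Agent.Blocks.OrbitSum.sum_eq_sum_fixed_add_smul hp (fun χ : IrrCharacter H => n χ * m χ)
    fun s χ => by
      have e1 : n (s • χ) = n χ := by
        apply Int.cast_injective (α := ℂ)
        rw [← h4, ← h4, classInner, classInner, ← Equiv.sum_comp (MulAction.toPerm s)]
        simp only [MulAction.toPerm_apply, hact, inv_smul_smul, hinv R hRφ]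
      have e2 : m (s • χ) = m χ := by
        apply Nat.cast_injective (R := ℂ)
        rw [← hm, ← hm]
        congr 1
        funext c
        rw [Function.comp_apply, hact, hS.smul, Function.comp_apply]
      rw [e1, e2]
  have h6 : classInner (R ∘ ι) β = ((∑ χ : IrrCharacter H, n χ * m χ : ℤ) : ℂ) := by
    have : R ∘ ι = ∑ χ : IrrCharacter H, (n χ : ℂ) • ((χ : H → ℂ) ∘ ι) := by
      funext c
      rw [hn]
      simp
    rw [this, classInner_sum_left]
    push_cast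
    exact Finset.sum_congr rfl fun χ _ => by rw [classInner_smul_left, hm χ]
  have h7 : (l : ℤ) ∣ (∑ χ : IrrCharacter H, n χ * m χ) - b := by
    refine dvd_of_sm (ψ := ψ) ((sm_inner hK hβ (R := R ∘ ι - R₀) hc).of_eq ?_)
    rw [classInner_sub_left, h6, hb, Int.cast_sub]
  have h8 : χ ∈ Finset.univ.filter (· ∈ MulAction.fixedPoints (Subgroup.zpowers φ) (IrrCharacter H)) :=
    Finset.mem_filter.2 ⟨Finset.mem_univ _, fun s => Subtype.ext (funext fun g => by rw [hact, h1])⟩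
  rw [← Finset.add_sum_erase _ _ h8] at h5
  have h9 : (l : ℤ) ∣ ∑ χ' ∈ (Finset.univ.filter
      (· ∈ MulAction.fixedPoints (Subgroup.zpowers φ) (IrrCharacter H))).erase χ, n χ' * m χ' := by
    refine Finset.dvd_sum fun χ' h => Dvd.dvd.mul_left (Int.natCast_dvd_natCast.2 ?_) _
    by_contra h'
    refine (Finset.mem_erase.1 h).1 (unique_chi hS hM (fun s g => ?_) h1
      (fun h'' => h' ((good_iff hS hM (hm χ')).1 h'')) h2)
    have e := hact s χ' (s • g)
    rwa [(Finset.mem_filter.1 (Finset.mem_erase.1 h).2).2 s, inv_smul_smul] at e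
  have h10 : n χ = a := Int.cast_injective (α := ℂ) (by rw [← h4, ha])
  obtain ⟨x, hx⟩ := h3.dvd
  obtain ⟨y, hy⟩ := h7
  obtain ⟨z, hz⟩ := h9
  rw [hz, h10, nsmul_eq_mul] at h5
  exact ⟨z + c - y - a * x, by linear_combination h5 - hy - a * hx⟩

end Cfsg.Agent.LV.Lift
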