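import Cfsg.Agent.LV.Lift.C
import Cfsg.Agent.LV.Lift.D
import Cfsg.Agent.KZ.Lie.ApiA

/-!
# LV, the lifting theorem (helper12)

For a large prime `l ≡ 1` modulo the level, every irreducible character of `G ^ F` has a lift to `G ^ (F ^ l)` (its
Glauberman correspondent) with the same multiplicities, up to one sign, in the Deligne-Lusztig characters: `lift`.
-/

set_option autoImplicit false
set_option linter.unusedSectionVars false

namespace Cfsg.Agent.LV.Lift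

open Cfsg Cfsg.Agent.DL Cfsg.Agent.DL.PP Cfsg.Agent.DL.Uni Cfsg.Agent.DL.Asm Cfsg.Agent.Nodes.Reps Matrix
  Cfsg.Agent.DL.Mk Cfsg.Agent.Nodes.BNOf Cfsg.Agent.Characters.Core Cfsg.Agent.KZ.Lie

variable {p : ℕ} [Fact p.Prime] {k : Type} [Field k] [CharP k p] {Y : Type} [Group Y] {N : Type} [Fintype N]
  [DecidableEq N] {ρ : Y →* GL N k} {F : MulAut Y} {G : Subgroup Y} [IsAlgClosed k] {D : Datum p ρ F G}
  {d e l j : ℕ} {y : Y} {w : D.W} {c : Lbl D} {θ : Y → ℂ}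

theorem gs_mul_pred {Q : ℕ} (hQ : 1 ≤ Q) (m : ℕ) : Q ^ m - 1 = gs Q m * (Q - 1) := by
  have h := gs_mul Q m
  obtain ⟨Q, rfl⟩ := Nat.exists_eq_add_of_le' hQ
  rw [Nat.add_sub_cancel]
  rw [mul_add_one] at h
  omega

theorem exists_root (he : 0 < e) (hl : 0 < l) {ζ : kˣ} (hζ : IsPrimitiveRoot ζ (p ^ e - 1)) :
    ∃ ζ' : kˣ, IsPrimitiveRoot ζ' (p ^ (e * l) - 1) ∧ ζ' ^ gs (p ^ e) l = ζ := by
  have hp := (Fact.out : p.Prime).one_lt
  have h1 := Nat.one_lt_pow he.ne' hp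
  have h2 := Nat.one_lt_pow (mul_pos he hl).ne' hp
  have : NeZero (p ^ e - 1) := ⟨by omega⟩
  have : NeZero (p ^ (e * l) - 1) := ⟨by omega⟩
  have h3 : p ^ (e * l) - 1 = gs (p ^ e) l * (p ^ e - 1) := by rw [pow_mul, gs_mul_pred h1.le]
  obtain ⟨ξ, hξ⟩ := exists_prim (k := k) (p := p) (mul_pos he hl)
  have h4 := hξ.pow (by omega) h3
  obtain ⟨i, -, hi, rfl⟩ := (h4.isPrimitiveRoot_iff').1 hζ
  obtain ⟨u, hu⟩ := ZMod.unitsMap_surjective (n := p ^ e - 1) (m := p ^ (e * l) - 1) (Dvd.intro_left _ h3.symm)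
    (ZMod.unitOfCoprime i hi)
  refine ⟨ξ ^ (u : ZMod (p ^ (e * l) - 1)).val, hξ.pow_of_coprime _ (ZMod.val_coe_unit_coprime u), ?_⟩
  rw [← pow_mul, mul_comm, pow_mul, pow_eq_pow_iff_modEq, ← h4.eq_orderOf, ← ZMod.natCast_eq_natCast_iff,
    ← ZMod.coe_unitOfCoprime i hi, ← hu, ZMod.unitsMap_val, ZMod.natCast_val]

theorem pow_eq (L : Lvl D d e) (hl : l = d * j + 1) (w : D.W) : (D.Wm w * D.Mx) ^ l = D.Wm w * D.Mx ^ l := by
  have h : ∀ w, (D.Wm w * D.Mx) ^ l = ((p : ℤ) ^ (e * j)) • (D.Wm w * D.Mx) := fun w => by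
    rw [hl, pow_succ, pow_mul, L.pow, smul_pow, one_pow, smul_mul_assoc, one_mul, ← pow_mul]
  have h1 := h 1
  rw [D.Wm_one, one_mul] at h1
  rw [h, h1, mul_smul_comm]

theorem lvl_pow (L : Lvl D d e) (h0 : 0 < l) (hl : l = d * j + 1) : Lvl (D.pow h0) d (e * l) :=
  ⟨L.d_pos, mul_pos L.e_pos h0, fun w => by
    show (D.Wm w * D.Mx ^ l) ^ d = ((p : ℤ) ^ (e * l)) • (1 : Matrix D.R D.R ℤ)
    rw [← pow_eq L hl, ← pow_mul, mul_comm, pow_mul, L.pow, smul_pow, one_pow, ← pow_mul]⟩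

theorem rp_pow (L : Lvl D d e) (h0 : 0 < l) (hl : l = d * j + 1) (hy : y ∈ G) (hw : D.Rp w (y⁻¹ * F y)) :
    (D.pow h0).Rp w (y⁻¹ * (F ^ l) y) := by
  obtain ⟨v, hv⟩ := ((D.pow h0).stable_iff hy).1 ((D.conj hy ⟨w, hw⟩).pow h0).map_T
  have h1 : D.Wm v * D.Mx ^ l = D.Wm w * D.Mx ^ l := mon_inj (k := k) fun c => (D.conj hy ⟨w, hw⟩).τ_inj (by
    have h2 := (D.conj hy ⟨w, hw⟩).F_pow_τ l c
    rw [D.conj_Mx, hw.pr_eq, pow_eq L hl] at h2
    exact (F_cj_τ (D := D.pow h0) hv c).symm.trans h2)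
  have h2 : IsRegular (D.Mx ^ l) :=
    Matrix.isRegular_of_isLeftRegular_det (IsRegular.of_ne_zero (D.pow h0).det_Mx_ne_zero).left
  rwa [D.Wm_injective (h2.right h1)] at hv

theorem fx_pow (L : Lvl D d e) (h0 : 0 < l) (hl : l = d * j + 1) (h : Fx D w c) : Fx (D.pow h0) w c := fun v => by
  have h1 : ∀ m v, chr ((D.Wm w * D.Mx) ^ m *ᵥ v) c = chr v c := fun m => by
    induction m with
    | zero => intro v; rw [pow_zero, one_mulVec]
    | succ m ih => intro v; rw [pow_succ', ← mulVec_mulVec, h, ih]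
  exact (congrArg (fun B => chr (B *ᵥ v) c) (pow_eq L hl w)).symm.trans (h1 l v)

theorem lab_pow (L : Lvl D d e) (h0 : 0 < l) {ζ ζ' : kˣ} (hζ : ζ' ^ gs (p ^ e) l = ζ) (hy : y ∈ G)
    (hw : D.Rp w (y⁻¹ * F y)) (h : Lab D d ζ y θ c) : Lab (D.pow h0) d ζ' y (fun t => θ (nrm F l t)) c := fun v => by
  show θ (nrm F l (nrm (F ^ l) d (y * D.τ (coch v ζ') * y⁻¹))) = _
  rw [nrm_nrm (L.tor hy hw) l d (τ_mem_cj y _), mul_comm, (L.tor hy hw).nrm_level l (τ_mem_cj y _), conj_pow, ← map_pow,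
    ← map_pow, hζ, h]

theorem RV_F (D : Datum p ρ F G) (h0 : 0 < l) (θ : Y → ℂ) {g : Y} (hg : g ∈ GF (F ^ l) G) :
    RV (F ^ l) G D.T D.U θ (F g) = RV (F ^ l) G D.T D.U (fun t => θ (F t)) g := by
  obtain ⟨m, hm, -⟩ := D.exists_rp (D.Fw⁻¹ D.wF⁻¹)
  have h1 : D.Rp D.wF (F m)⁻¹ := by simpa using hm.mapF.inv
  rw [← RV_map (α := F) (T' := D.T) (V' := cj m D.U) (fun y => (pow_comm_apply F l y).symm) D.F_mem_G_iff
    D.F_mem_T_iff (fun y => by rw [mem_cj, ← D.F_mem_iff_U h1 (m⁻¹ * y * m)]; simp [mul_assoc])]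
  exact Pair.indep (D := D.pow h0) Mk.mackey ⟨m, hm.mem_G, (D.cj_T ⟨_, hm⟩).symm, rfl, (D.pow h0).map_T⟩
    (D.pow h0).pair_self _ g hg

theorem RW_eq_RV (f : Fr D) (hy : y ∈ G) (hw : D.Rp w (y⁻¹ * F y)) (h : Lab D f.d f.ζ y θ c) (g : GF F G) :
    RW f w c g = RV F G (cj y D.T) (cj y D.U) θ g := by
  rw [← R_eq_RW f hy hw h, R_eq' ⟨y, hy, rfl, rfl, (D.stable_iff hy).2 ⟨w, hw⟩⟩ θ g g.2]

theorem bessel_fin (f : Fr D) [Fintype ↥(GF F G)] {χ : GF F G → ℂ} (hχ : IsIrrCharacter _ χ) (w : D.W)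
    (s : Finset (Lbl D)) : ∑ c ∈ s, ‖classInner χ (RW f w c)‖ ^ 2 ≤ Nat.card D.W := by
  classical
  have h1 := bessel f χ
  have h2 : ∀ w, (Function.support fun c : Lbl D => ‖classInner χ (RW f w c)‖ ^ 2).Finite := fun w =>
    (Set.finite_coe_iff.1 (finite_Fx D w)).subset fun c hc => by
      by_contra h
      exact hc (by simp [RW_zero f h, classInner])
  rw [classInner_irr_self hχ, Complex.one_re, inv_mul_le_iff₀ (Nat.cast_pos.2 Nat.card_pos), mul_one] at h1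
  refine le_trans ?_ ((single_le_finsum w (Set.toFinite _) fun w => finsum_nonneg fun c => by positivity).trans h1)
  rw [finsum_eq_sum_of_support_subset _ (s := s ∪ (h2 w).toFinset) fun c hc =>
    Finset.mem_coe.2 (Finset.mem_union_right _ ((h2 w).mem_toFinset.2 hc))]
  exact Finset.sum_le_sum_of_subset_of_nonneg Finset.subset_union_left fun _ _ _ => by positivity

theorem abs_le_card (f : Fr D) [Fintype ↥(GF F G)] {χ : GF F G → ℂ} (hχ : IsIrrCharacter _ χ) {a : ℤ}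
    (h : classInner χ (RW f w c) = a) : |a| ≤ Nat.card D.W := by
  have h1 := bessel_fin f hχ w {c}
  rw [Finset.sum_singleton, h, Complex.norm_intCast, ← Int.cast_abs] at h1
  exact (Int.le_self_sq _).trans (by exact_mod_cast h1)

variable (f : Fr D)

/-- the admissible primes -/
structure Lp (l : ℕ) : Prop where
  prime : l.Prime
  mod : l ≡ 1 [MOD f.d * (p ^ f.e - 1)]
  ne : l ≠ p
  ndvd : ¬ l ∣ Nat.card (GF F G)
  big : 2 * Nat.card D.W < l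

theorem exists_lp (B : ℕ) {M : ℕ} (hM : M ≠ 0) : ∃ l, B < l ∧ l ≡ 1 [MOD M] ∧ Lp f l := by
  have := finite_GF D
  have h1 := Nat.one_lt_pow f.L.e_pos.ne' (Fact.out : p.Prime).one_lt
  have h2 : 0 < Nat.card (GF F G) := Nat.card_pos
  obtain ⟨l, h3, h4, h5⟩ := Nat.exists_prime_gt_modEq_one (k := M * (f.d * (p ^ f.e - 1)))
    (B + p + Nat.card (GF F G) + 2 * Nat.card D.W) (mul_ne_zero hM (mul_ne_zero f.L.d_pos.ne' (by omega)))
  exact ⟨l, by omega, h5.of_mul_right _, h3, h5.of_mul_left _, by omega, fun h => by have := Nat.le_of_dvd h2 h; omega,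
    by omega⟩

variable {f}

theorem Lp.pos (hl : Lp f l) : 0 < l := hl.prime.pos

theorem Lp.exists_eq (hl : Lp f l) : ∃ j, l = f.d * j + 1 := by
  obtain ⟨j, hj⟩ := (Nat.modEq_iff_dvd' hl.prime.one_lt.le).1 (hl.mod.of_mul_right _).symm
  exact ⟨j, by have := hl.pos; omega⟩

/-- the frame for `F ^ l` -/
theorem Lp.exists_fr (hl : Lp f l) : ∃ f' : Fr (D.pow hl.pos), f'.d = f.d ∧ f'.ζ ^ gs (p ^ f.e) l = f.ζ := by
  obtain ⟨j, hj⟩ := hl.exists_eq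
  obtain ⟨ζ, h1, h2⟩ := exists_root f.L.e_pos hl.pos f.hζ
  exact ⟨⟨f.d, f.e * l, lvl_pow f.L hl.pos hj, ζ, h1⟩, rfl, h2⟩

/-- restriction from `G ^ (F ^ l)` to `G ^ F` modulo `l` -/
theorem res_congr (hl : Lp f l) [Fact l.Prime] (ψ : ℂ →+* ℂ_[l]) {f' : Fr (D.pow hl.pos)} (h1 : f'.d = f.d)
    (h2 : f'.ζ ^ gs (p ^ f.e) l = f.ζ) (hc : Fx D w c) (g : GF F G) (g' : GF (F ^ l) G) (hg : (g' : Y) = g) :
    Sm ψ (RW f' w c g' - RW f w c g) := by
  obtain ⟨j, hj⟩ := hl.exists_eq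
  have hy := yw_mem D w
  have hw := yw_rp D w
  obtain ⟨h3, h4⟩ := th_spec f hc
  rw [RW_eq_RV f hy hw h4, RW_eq_RV f' hy (rp_pow f.L hl.pos hj hy hw) (h1 ▸ lab_pow f.L hl.pos h2 hy hw h4), hg]
  refine (RV_congr (D.conj hy ⟨w, hw⟩) hl.ne ψ h3 (fun t ht => ?_) g.2).of_eq (by rw [D.conj_U hy ⟨w, hw⟩])
  obtain ⟨v, rfl⟩ := exists_nrm f.L f.hζ hy hw ht
  have h5 := Nat.one_lt_pow f.L.e_pos.ne' (Fact.out : p.Prime).one_lt
  have h6 : chr v c ^ (p ^ f.e - 1) = 1 := by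
    rw [← mul_left_inj (chr v c), ← pow_succ, Nat.sub_add_cancel h5.le, hc.pow f.L, one_mul]
  rw [h4, ← Units.val_pow_eq_pow_val, pow_eq_pow_mod l h6, hl.mod.of_mul_left _, ← pow_eq_pow_mod 1 h6, pow_one]

/-- the action of `F` on the characters of `G ^ (F ^ l)` -/
theorem RW_F (hl : Lp f l) (f' : Fr (D.pow hl.pos)) (hc : Fx (D.pow hl.pos) w c) (g g' : GF (F ^ l) G)
    (hg : (g' : Y) = F g) : RW f' w c g' = RW f' w (mon (D.Wm w * D.Mx)ᵀ c) g := by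
  obtain ⟨j, hj⟩ := hl.exists_eq
  have hy := yw_mem D w
  have hw := yw_rp D w
  have hw' := rp_pow f.L hl.pos hj hy hw
  obtain ⟨θ, -, h2⟩ := exists_theta f'.L f'.hζ hy hw' hc
  have h3 : Lab (D.pow hl.pos) f'.d f'.ζ (yw D w) (fun t => θ (F t)) (mon (D.Wm w * D.Mx)ᵀ c) := fun v => by
    show θ (F (nrm (F ^ l) f'.d (yw D w * D.τ (coch v f'.ζ) * (yw D w)⁻¹))) = _
    rw [← nrm_map (α := F) (fun y => (pow_comm_apply F l y).symm), F_cj_τ hw, mon_coch, chr_tr]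
    exact h2 _
  rw [RW_eq_RV f' hy hw' h2, RW_eq_RV f' hy hw' h3, hg]
  have h4 := RV_F (D.conj hy ⟨w, hw⟩) hl.pos θ g.2
  rwa [D.conj_U hy ⟨w, hw⟩] at h4

/-- **The lifting theorem.** -/
theorem lift (hl : Lp f l) [Fintype ↥(GF F G)] [Fintype ↥(GF (F ^ l) G)] {χ : GF F G → ℂ} (hχ : IsIrrCharacter _ χ) :
    ∃ (f' : Fr (D.pow hl.pos)) (χ' : GF (F ^ l) G → ℂ) (ε : ℂ), IsIrrCharacter _ χ' ∧ (ε = 1 ∨ ε = -1) ∧
      ∀ w c, classInner χ' (RW f' w c) = ε * classInner χ (RW f w c) := by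
  classical
  have : Fact l.Prime := ⟨hl.prime⟩
  obtain ⟨j, hj⟩ := hl.exists_eq
  obtain ⟨ψ⟩ := CF.exists_embedding l
  obtain ⟨f', h1, h2⟩ := hl.exists_fr
  let φ₀ : GF (F ^ l) G →* GF (F ^ l) G := (F.toMonoidHom.comp (GF (F ^ l) G).subtype).codRestrict _ fun g =>
    mem_GF.2 ⟨D.F_mem_G g.2.1, (pow_comm_apply F l g).trans (congrArg F g.2.2)⟩
  let φ : MulAut (GF (F ^ l) G) := MulEquiv.ofBijective φ₀ (Finite.injective_iff_bijective.1 fun a b h =>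
    Subtype.ext (F.injective (congrArg Subtype.val h)))
  have hφ : ∀ n g, ((φ ^ n) g : Y) = (F ^ n) g := fun n g => by
    induction n with
    | zero => rfl
    | succ n ih => rw [pow_succ_apply, pow_succ_apply, ← ih]; rfl
  have hle : GF F G ≤ GF (F ^ l) G := fun g hg => ⟨hg.1, pow_fix hg.2 l⟩
  obtain ⟨χ', h3, h4, ε, h5, h6⟩ := glaub ψ φ (MulEquiv.ext fun g => Subtype.ext ((hφ l g).trans g.2.2))
    (Subgroup.inclusion hle) (Subgroup.inclusion_injective hle)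
    (fun g => ⟨fun h => ⟨⟨g, g.2.1, congrArg Subtype.val h⟩, rfl⟩, fun ⟨c, h⟩ => h ▸ Subtype.ext c.2.2⟩) hl.ndvd hχ
  refine ⟨f', χ', ε, h3, by rcases h5 with h | h <;> simp [h], fun w c => ?_⟩
  obtain ⟨a, ha, ha'⟩ := exists_int h3 (RW_gen f' w c)
  obtain ⟨b, hb, hb'⟩ := exists_int hχ (RW_gen f w c)
  have hW := hl.big
  by_cases hc : Fx D w c
  · have h7 : mon (D.Wm w * D.Mx)ᵀ c = c := eq_of_chr D fun v => by rw [chr_tr, hc]
    have h8 := h6 _ _ (RW_gen f' w c) (fun g => by rw [RW_F hl f' (fx_pow f.L hl.pos hj hc) g _ rfl, h7])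
      (fun g => res_congr hl ψ h1 h2 hc g _ rfl) a b ha' hb'
    have h9 := abs_le.1 (abs_le_card f' h3 ha)
    have h10 := abs_le.1 (abs_le_card f hχ hb)
    have h11 : (Nat.card (D.pow hl.pos).W : ℤ) = Nat.card D.W := rfl
    have h12 := Int.eq_zero_of_abs_lt_dvd h8 (abs_lt.2 (by rcases h5 with h | h <;> rw [h] <;> omega))
    rw [ha, hb, show a = ε * b by rcases h5 with h | h <;> rw [h] at h12 ⊢ <;> omega, Int.cast_mul]
  rw [RW_zero f hc, show classInner χ 0 = 0 by simp [classInner], mul_zero]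
  by_cases hc' : Fx (D.pow hl.pos) w c
  swap
  · simp [RW_zero f' hc', classInner]
  by_contra h0
  set σ : Lbl D → Lbl D := fun c => mon (D.Wm w * D.Mx)ᵀ c with hσ
  have k1 : ∀ i v, chr v (σ^[i] c) = chr ((D.Wm w * D.Mx) ^ i *ᵥ v) c := fun i => by
    induction i with
    | zero => intro v; rw [pow_zero, one_mulVec, Function.iterate_zero_apply]
    | succ i ih => intro v; rw [Function.iterate_succ_apply', hσ, chr_tr, ih, pow_succ, mulVec_mulVec]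
  have k2 : ∀ v, chr ((D.Wm w * D.Mx) ^ l *ᵥ v) c = chr v c := fun v => by rw [pow_eq f.L hj]; exact hc' v
  have k3 : Function.minimalPeriod σ c = l := Function.minimalPeriod_eq_prime_iff.2
    ⟨eq_of_chr D fun v => by rw [k1, k2], fun h => hc fun v => by rw [← chr_tr]; exact congrArg _ h⟩
  have k4 : ∀ i, classInner χ' (RW f' w (σ^[i] c)) = a := fun i => by
    induction i with
    | zero => exact ha
    | succ i ih =>
      have k5 : Fx (D.pow hl.pos) w (σ^[i] c) := fun v => by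
        refine (congrArg (fun B => chr (B *ᵥ v) (σ^[i] c)) (pow_eq f.L hj w)).symm.trans ?_
        rw [k1, k1, mulVec_mulVec, pow_mul_comm, ← mulVec_mulVec, k2]
      rw [← ih, Function.iterate_succ_apply', classInner, classInner, ← Equiv.sum_comp φ.toEquiv (fun g => χ' g *
        (starRingEnd ℂ) (RW f' w (σ^[i] c) g))]
      exact congrArg _ (Finset.sum_congr rfl fun g _ => by
        rw [MulEquiv.toEquiv_eq_coe, MulEquiv.coe_toEquiv, h4, RW_F hl f' k5 g _ rfl])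
  have k6 := bessel_fin f' h3 w ((Finset.range l).image fun i => σ^[i] c)
  have k9 := Function.iterate_injOn_Iio_minimalPeriod (f := σ) (x := c)
  rw [k3, ← Finset.coe_range] at k9
  rw [Finset.sum_image k9] at k6
  simp only [k4, Finset.sum_const, Finset.card_range, nsmul_eq_mul, Complex.norm_intCast, sq_abs] at k6
  have k7 : (l : ℤ) * a ^ 2 ≤ Nat.card D.W := by exact_mod_cast k6
  have k8 : 0 < a ^ 2 := sq_pos_of_ne_zero fun h : a = 0 => h0 (by rw [ha, h, Int.cast_zero])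
  nlinarith

variable (f) in
/-- the lifting theorem for infinitely many powers of `F` -/
theorem exists_lift [Fintype ↥(GF F G)] {χ : GF F G → ℂ} (hχ : IsIrrCharacter _ χ) (B M : ℕ) (hM : M ≠ 0) :
    ∃ (l : ℕ) (hl : 0 < l) (_ : Fintype ↥(GF (F ^ l) G)) (f' : Fr (D.pow hl)) (χ' : GF (F ^ l) G → ℂ) (ε : ℂ),
      B < l ∧ l ≡ 1 [MOD M] ∧ IsIrrCharacter (GF (F ^ l) G) χ' ∧ (ε = 1 ∨ ε = -1) ∧
        ∀ w c, classInner χ' (RW f' w c) = ε * classInner χ (RW f w c) := by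
  obtain ⟨l, h1, h2, hl⟩ := exists_lp f B hM
  have := finite_GF (D.pow hl.pos)
  have := Fintype.ofFinite (GF (F ^ l) G)
  obtain ⟨f', χ', ε, h⟩ := lift hl hχ
  exact ⟨l, hl.pos, this, f', χ', ε, h1, h2, h⟩

end Cfsg.Agent.LV.Lift
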