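import Cfsg.Agent.DL.Lef.Pure

/-!
# LV, lifting theorem, part A: congruences for an ultrametric absolute value on `ℂ` (helper12)

`OO ψ` is the valuation ring, `Sm ψ z` means `‖ψ z‖ < 1`; `trace_pow_sm` is the congruence `tr (k ^ l) = ∑ k x x ^ l`.
-/

set_option autoImplicit false
set_option linter.unusedSectionVars false

namespace Cfsg.Agent.LV.Lift

open Polynomial Filter Topology Cfsg.Agent.DL.Lef

theorem trace_pow_char {R n : Type*} [CommRing R] [Fintype n] [DecidableEq n] (l : ℕ) [Fact l.Prime] [CharP R l]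
    (M : Matrix n n R) : (M ^ l).trace = M.trace ^ l := by
  have hl : l.Prime := Fact.out
  cases isEmpty_or_nonempty n
  · simp [Matrix.trace, hl.ne_zero]
  have h1 : expand R l (M ^ l).charpoly = M.charpoly ^ l := by
    unfold Matrix.charpoly
    rw [AlgHom.map_det, ← Matrix.coe_detMonoidHom, ← (Matrix.detMonoidHom : Matrix n n R[X] →* R[X]).map_pow]
    apply congr_arg Matrix.det
    refine matPolyEquiv.injective ?_
    rw [map_pow, Matrix.matPolyEquiv_charmatrix, sub_pow_char_of_commute, ← C_pow]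
    · exact (id (matPolyEquiv_eq_X_pow_sub_C l M) :)
    · exact (C M).commute_X
  rw [← map_frobenius_expand, map_expand] at h1
  rw [Matrix.trace_eq_neg_charpoly_coeff, Matrix.trace_eq_neg_charpoly_coeff, expand_injective hl.pos h1, coeff_map,
    ← map_neg, frobenius_def]

variable {E : Type*} [NormedField E] [IsUltrametricDist E] (ψ : ℂ →+* E)

/-- the valuation ring -/
def OO : Subring ℂ where
  carrier := {z | ‖ψ z‖ ≤ 1}
  mul_mem' {a b} (ha : ‖ψ a‖ ≤ 1) (hb : ‖ψ b‖ ≤ 1) := by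
    show ‖ψ (a * b)‖ ≤ 1
    rw [map_mul, norm_mul]
    exact mul_le_one₀ ha (norm_nonneg _) hb
  one_mem' := by simp
  add_mem' {a b} (ha : ‖ψ a‖ ≤ 1) (hb : ‖ψ b‖ ≤ 1) := by
    show ‖ψ (a + b)‖ ≤ 1
    rw [map_add]
    exact (IsUltrametricDist.norm_add_le_max _ _).trans (max_le ha hb)
  zero_mem' := by simp
  neg_mem' {a} (ha : ‖ψ a‖ ≤ 1) := by
    show ‖ψ (-a)‖ ≤ 1
    rwa [map_neg, norm_neg]

/-- small elements -/
def Sm (z : ℂ) : Prop := ‖ψ z‖ < 1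

variable {ψ} {a b : ℂ}

theorem mem_OO : a ∈ OO ψ ↔ ‖ψ a‖ ≤ 1 := Iff.rfl

namespace Sm

theorem mem (h : Sm ψ a) : a ∈ OO ψ := le_of_lt h

theorem zero : Sm ψ 0 := by simp [Sm]

theorem add (ha : Sm ψ a) (hb : Sm ψ b) : Sm ψ (a + b) := by
  show ‖ψ (a + b)‖ < 1
  rw [map_add]
  exact (IsUltrametricDist.norm_add_le_max _ _).trans_lt (max_lt ha hb)

theorem neg (ha : Sm ψ a) : Sm ψ (-a) := by
  show ‖ψ (-a)‖ < 1
  rwa [map_neg, norm_neg]

theorem sub (ha : Sm ψ a) (hb : Sm ψ b) : Sm ψ (a - b) := by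
  rw [sub_eq_add_neg]; exact ha.add hb.neg

theorem mul_left (ha : a ∈ OO ψ) (hb : Sm ψ b) : Sm ψ (a * b) := by
  show ‖ψ (a * b)‖ < 1
  rw [map_mul, norm_mul]
  exact (mul_le_of_le_one_left (norm_nonneg _) ha).trans_lt hb

theorem mul_right (ha : Sm ψ a) (hb : b ∈ OO ψ) : Sm ψ (a * b) := by
  rw [mul_comm]; exact mul_left hb ha

theorem sum {ι : Type*} (s : Finset ι) {f : ι → ℂ} (h : ∀ i ∈ s, Sm ψ (f i)) : Sm ψ (∑ i ∈ s, f i) :=
  Finset.sum_induction f (Sm ψ) (fun _ _ => add) zero h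

theorem of_eq (ha : Sm ψ a) (e : a = b) : Sm ψ b := e ▸ ha

theorem symm (h : Sm ψ (a - b)) : Sm ψ (b - a) := h.neg.of_eq (neg_sub _ _)

theorem trans {c : ℂ} (h : Sm ψ (a - b)) (h' : Sm ψ (b - c)) : Sm ψ (a - c) := (h.add h').of_eq (by ring)

theorem refl (a : ℂ) : Sm ψ (a - a) := by rw [sub_self]; exact zero

theorem pow_sub_one (h : Sm ψ (a - 1)) (n : ℕ) : Sm ψ (a ^ n - 1) := by
  have h1 : a ∈ OO ψ := by simpa using add_mem h.mem (one_mem (OO ψ))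
  induction n with
  | zero => rw [pow_zero]; exact refl 1
  | succ n ih => exact ((mul_left h1 ih).add h).of_eq (by ring)

theorem norm_eq (h : Sm ψ (a - 1)) : ‖ψ a‖ = 1 := by
  have h1 : ψ a = ψ (a - 1) + 1 := by simp
  have h2 : ‖ψ (a - 1)‖ ≠ ‖(1 : E)‖ := by rw [norm_one]; exact ne_of_lt h
  rw [h1, IsUltrametricDist.norm_add_eq_max_of_norm_ne_norm h2, norm_one]
  exact max_eq_right h.le

theorem cancel (ha : ‖ψ a‖ = 1) (h : Sm ψ (a * b)) : Sm ψ b := by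
  have h1 : ‖ψ (a * b)‖ < 1 := h
  rwa [map_mul, norm_mul, ha, one_mul] at h1

end Sm

theorem mem_of_pow {n : ℕ} (hn : n ≠ 0) (h : a ^ n = 1) : a ∈ OO ψ :=
  (norm_map_eq_one_of_pow_eq_one ψ hn h).1.le

theorem mem_of_cancel (ha : ‖ψ a‖ = 1) (h : a * b ∈ OO ψ) : b ∈ OO ψ := by
  have h1 : ‖ψ (a * b)‖ ≤ 1 := h
  rwa [map_mul, norm_mul, ha, one_mul] at h1

variable (ψ) in
/-- the maximal ideal -/
def mm : Ideal (OO ψ) where
  carrier := {z | Sm ψ z}
  add_mem' ha hb := Sm.add ha hb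
  zero_mem' := Sm.zero
  smul_mem' c _ h := Sm.mul_left c.2 h

theorem trace_pow_sm {l : ℕ} [Fact l.Prime] (hl : ‖(l : E)‖ < 1) {n : Type*} [Fintype n] [DecidableEq n]
    (M : Matrix n n ℂ) (hM : ∀ x y, M x y ∈ OO ψ) : Sm ψ ((M ^ l).trace - ∑ x, M x x ^ l) := by
  have h0 : mm ψ ≠ ⊤ := fun h => by
    have h1 : Sm ψ ((1 : OO ψ) : ℂ) := (Ideal.eq_top_iff_one _).1 h
    simp [Sm] at h1
  have := Ideal.Quotient.nontrivial_iff.2 h0
  have : CharP (OO ψ ⧸ mm ψ) l := (CharP.charP_iff_prime_eq_zero Fact.out).2 (by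
    rw [← map_natCast (Ideal.Quotient.mk (mm ψ)), Ideal.Quotient.eq_zero_iff_mem]
    show ‖ψ ((l : OO ψ) : ℂ)‖ < 1
    simpa using hl)
  let M' : Matrix n n (OO ψ) := fun x y => ⟨M x y, hM x y⟩
  have h1 := trace_pow_char l ((Ideal.Quotient.mk (mm ψ)).mapMatrix M')
  rw [← map_pow, RingHom.mapMatrix_apply, ← AddMonoidHom.map_trace, Matrix.trace, Matrix.trace, sum_pow_char] at h1
  have h2 : Ideal.Quotient.mk (mm ψ) ((M' ^ l).trace - ∑ x, M' x x ^ l) = 0 := by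
    rw [map_sub, sub_eq_zero, map_sum]
    simpa [Matrix.trace] using h1
  have h3 : Sm ψ (((M' ^ l).trace - ∑ x, M' x x ^ l : OO ψ) : ℂ) := Ideal.Quotient.eq_zero_iff_mem.1 h2
  have h4 : M = (OO ψ).subtype.mapMatrix M' := rfl
  refine h3.of_eq ?_
  conv_rhs => rw [h4, ← map_pow, RingHom.mapMatrix_apply, ← AddMonoidHom.map_trace]
  simp [M']
  rfl

/-- congruences pass to the Lefschetz numbers -/
theorem sm_lef {S T : ℕ → ℂ} (hS : LInd ψ S) (hT : LInd ψ T)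
    (h : ∀ᶠ j : ℕ in atTop, Sm ψ (S j.factorial - T j.factorial)) : Sm ψ (lef S - lef T) := by
  have h1 := hS.2.sub hT.2
  have h2 := (IsUltrametricDist.isClosed_ball (0 : E) 1).mem_of_tendsto h1
    (h.mono fun j hj => by rw [mem_ball_zero_iff, ← map_sub]; exact hj)
  rwa [mem_ball_zero_iff, ← map_sub] at h2

theorem mem_of_isIntegral (h : IsIntegral ℤ a) : a ∈ OO ψ := by
  have h1 : IsIntegral ℤ (ψ a) := h.map ψ.toIntAlgHom
  exact norm_le_one_of_isIntegral h1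

end Cfsg.Agent.LV.Lift
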