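import Cfsg.Agent.LV.Lift.A
import Cfsg.Agent.DL.Mk.Tor

/-!
# LV, lifting theorem, part B: the Yokonuma-Hecke algebra modulo `Q - 1` (helper12)

`level` : for a finite group with a split `(B,N)`-pair, the counts for `F ^ l` and for `F` agree modulo `l`.
-/

set_option autoImplicit false
set_option linter.unusedSectionVars false

namespace Cfsg.Agent.LV.Lift

open CoxeterSystem Cfsg.Agent.DL.Mk

variable {E : Type*} [NormedField E] [IsUltrametricDist E] {ψ : ℂ →+* E}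
  {I W Y : Type*} [Group W] [Group Y] {M : CoxeterMatrix I}

theorem Rw_sm (cs : CoxeterSystem M W) (ε : W → I → Prop) {q : ℂ} (hq : Sm ψ (q - 1)) {φ : W → ℂ}
    (hφ : ∀ w, φ w ∈ OO ψ) (ω : List I) (w : W) : Sm ψ (Rw cs ε q ω φ w - φ (w * cs.wordProd ω)) := by
  induction ω generalizing w with
  | nil => simpa [Rw] using Sm.zero
  | cons i ω ih =>
    have h1 : ∀ w, Rw cs ε q ω φ w ∈ OO ψ := fun w => by simpa using add_mem (ih w).mem (hφ (w * cs.wordProd ω))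
    have h2 := ih (w * cs.simple i)
    simp only [Rw, Rop, wordProd_cons, ← mul_assoc]
    split_ifs
    · exact ((hq.mul_right (h1 (w * cs.simple i))).add h2).of_eq (by ring)
    · exact ((hq.mul_right (h1 w)).add h2).of_eq (by ring)
    · exact h2.of_eq (by ring)

theorem dl1_mem (w : W) : dl1 ℂ w ∈ OO ψ := by
  unfold dl1
  split_ifs
  exacts [one_mem _, zero_mem _]

theorem sum_quot {G : Type*} [Group G] [Fintype G] (H : Subgroup G) [Fintype (G ⧸ H)] (f : G → ℂ)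
    (hf : ∀ x, ∀ t ∈ H, f (x * t) = f x) : ∑ x : G, f x = Nat.card H * ∑ x : G ⧸ H, f x.out := by
  classical
  have := Fintype.ofFinite H
  have h1 : ∀ (q : G ⧸ H) (b : H), ((q.out * b : G) : G ⧸ H) = q := fun q b => by
    rw [QuotientGroup.mk_mul_of_mem _ b.2, QuotientGroup.out_eq']
  have h : Function.Bijective fun z : (G ⧸ H) × H => z.1.out * z.2 := by
    constructor
    · rintro ⟨q, b⟩ ⟨q', b'⟩ e
      have h2 : q = q' := by rw [← h1 q b, ← h1 q' b']; exact congrArg _ e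
      subst h2
      rw [Subtype.ext (mul_left_cancel e : (b : G) = b')]
    · intro g
      obtain ⟨b, hb⟩ := QuotientGroup.mk_out_eq_mul H g
      exact ⟨((g : G ⧸ H), b⁻¹), by simp [hb]⟩
  rw [← h.sum_comp f, Fintype.sum_prod_type]
  simp only [fun (q : G ⧸ H) (b : H) => hf q.out b b.2, Finset.sum_const, Finset.card_univ, nsmul_eq_mul,
    Nat.card_eq_fintype_card, Finset.mul_sum]

theorem sum_hom {U : Subgroup Y} [Fintype U] {α : Y → Y} (hα : Function.Injective α) (h : ∀ u ∈ U, α u ∈ U)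
    (f : Y → ℂ) : ∑ u : U, f (α u) = ∑ u : U, f u :=
  ((Finite.injective_iff_bijective (f := fun u : U => (⟨α u, h u u.2⟩ : U))).1
    fun _ _ e => Subtype.ext (hα (congrArg Subtype.val e))).sum_comp fun u : U => f u

/-- the average over the conjugate `a U a⁻¹` -/
noncomputable def av (U : Subgroup Y) [Fintype U] (a : Y) (f : Y → ℂ) (g : Y) : ℂ := avn U f a⁻¹ (g * a)

/-- the elements which conjugate `U` to `F ^ i U` -/
def aa (F : MulAut Y) (n₀ : Y) : ℕ → Y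
  | 0 => 1
  | i + 1 => F (aa F n₀ i) * n₀

theorem aa_realised : True := by
  have := @aa.eq_def.{0}
  trivial

/-- the iterated convolution -/
noncomputable def ff (U : Subgroup Y) [Fintype U] (F : MulAut Y) (n₀ : Y) (φ : Y → ℂ) : ℕ → Y → ℂ
  | 0 => φ
  | i + 1 => av U (aa F n₀ (i + 1)) (ff U F n₀ φ i)

theorem ff_realised : True := by
  have := @ff.eq_def.{0}
  trivial

/-- functions close to a translate of the basic function -/
structure Cl (ψ : ℂ →+* E) (U T N₀ : Subgroup Y) (π : Y → W) (Λ f : Y → ℂ) : Prop where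
  ex : ∃ a ∈ N₀, ∃ φ, Good U T N₀ π Λ (fun g => f (g * a⁻¹)) φ ∧ ∀ w, Sm ψ (φ w - dl1 ℂ (w * (π a)⁻¹))
  right : ∀ t ∈ T, ∀ g, f (g * t) = Λ t * f g

variable {cs : CoxeterSystem M W} {G U T N : Subgroup Y} {π : Y → W} {n : I → Y} {X : I → Subgroup Y}
  (S : SBN cs G U T N π n X) [Fintype G] [Fintype U] [Fintype T] [∀ i, Fintype (X i)] {Q : ℕ}
  (hQ : ∀ i, Fintype.card (X i) = Q) {N₀ : Subgroup Y} (hN₀ : N₀ ≤ N) (hn₀ : ∀ i, n i ∈ N₀) {h : I → Y → Y}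
  (hrk : ∀ i, ∀ ξ ∈ X i, ξ ≠ 1 → h i ξ ∈ T ∧ n i * ξ * n i ∈ dc U (h i ξ * n i))
  {Λ : Y → ℂ} {ε : W → I → Prop} (hΛ : Adm T N₀ π X h Q Λ ε) (hq : Sm ψ ((Q : ℂ) - 1)) {f f' : Y → ℂ}

theorem Cl.left (hf : Cl ψ U T N₀ π Λ f) {t : Y} (ht : t ∈ T) (g : Y) : f (t * g) = Λ t * f g := by
  obtain ⟨a, -, φ, h1, -⟩ := hf.ex
  simpa [mul_assoc] using h1.eqv t ht (g * a)

theorem Cl.leftU (hf : Cl ψ U T N₀ π Λ f) {u : Y} (hu : u ∈ U) (g : Y) : f (u * g) = f g := by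
  obtain ⟨a, -, φ, h1, -⟩ := hf.ex
  simpa [mul_assoc] using h1.bi.left u hu (g * a)

theorem lin_mem (hΛ : Lin T Λ) {t : Y} (ht : t ∈ T) : Λ t ∈ OO ψ := by
  have h1 : ∀ m : ℕ, Λ (t ^ m) = Λ t ^ m := fun m => by
    induction m with
    | zero => rw [pow_zero, pow_zero, hΛ.one]
    | succ m ih => rw [pow_succ, hΛ.mul _ (pow_mem ht m) _ ht, ih, pow_succ]
  refine mem_of_pow (n := Nat.card T) Nat.card_pos.ne' ?_
  rw [← h1, show t ^ Nat.card T = 1 from congrArg Subtype.val (pow_card_eq_one' (x := (⟨t, ht⟩ : T))), hΛ.one]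

include S

include hN₀ hn₀ in
theorem exists_val {g : Y} (hg : g ∈ G) : ∃ t ∈ T, ∃ w, ∀ f φ, Good U T N₀ π Λ f φ → f g = Λ t * φ w := by
  obtain ⟨u, hu, a, ha, v, hv, rfl⟩ := S.cover g hg
  refine ⟨_, S.mem_T_of_π_eq ha (S.lift_mem (π a)) (S.π_lift _).symm, π a, fun f φ hf => ?_⟩
  have h1 := hf.val (lift cs n (π a)) (lw_mem hn₀ _)
  rw [S.π_lift] at h1
  rw [hf.bi.right v hv, hf.bi.left u hu, ← h1,
    ← hf.eqv _ (S.mem_T_of_π_eq ha (S.lift_mem (π a)) (S.π_lift _).symm), inv_mul_cancel_right]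

include hN₀ hΛ in
theorem cl_idc : Cl ψ U T N₀ π Λ (idc U T Λ) where
  ex := ⟨1, one_mem _, dl1 ℂ, by simpa using S.good_idc hN₀ hΛ.lin hΛ.triv, fun w => by
    rw [S.π_one, inv_one, mul_one]; exact Sm.refl _⟩
  right _ ht g := SBN.idc_mul_T hΛ.lin ht g

include hQ hN₀ hn₀ hrk hΛ hq

theorem good_av (hf : Cl ψ U T N₀ π Λ f) {b : Y} (hb : b ∈ N₀) :
    ∃ φ, Good U T N₀ π Λ (fun g => av U b f (g * b⁻¹)) φ ∧ ∀ w, Sm ψ (φ w - dl1 ℂ (w * (π b)⁻¹)) := by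
  obtain ⟨a, ha, φ, h1, h2⟩ := hf.ex
  have hy := mul_mem (inv_mem hb) ha
  have h3 := S.good_avn hQ hN₀ hn₀ hrk hΛ h1 hy
  have h4 := hq.pow_sub_one (cs.length (π (b⁻¹ * a)))
  set c := (Q : ℂ) ^ cs.length (π (b⁻¹ * a)) with hc
  have h5 : c ≠ 0 := fun h0 => by simpa [h0] using h4.norm_eq
  have h6 : ∀ g, av U b f (g * b⁻¹) = c⁻¹ * (c * avn U (fun g => f (g * a⁻¹)) (b⁻¹ * a) g) := fun g => by
    rw [inv_mul_cancel_left₀ h5]
    simp [av, avn, mul_assoc]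
  refine ⟨fun w => c⁻¹ * Rw cs ε (Q : ℂ) (rword cs (π (b⁻¹ * a))) φ w,
    ⟨⟨fun u hu g => ?_, fun u hu g => ?_⟩, fun t ht g => ?_, fun x hx => ?_⟩, fun w => ?_⟩
  · rw [h6, h6, h3.bi.left u hu]
  · rw [h6, h6, h3.bi.right u hu]
  · rw [h6, h6, h3.eqv t ht]; ring
  · rw [h6, h3.val x hx]
  · have h7 : ∀ w, φ w ∈ OO ψ := fun w => by simpa using add_mem (h2 w).mem (dl1_mem (w * (π a)⁻¹))
    have h8 := (Rw_sm cs ε hq h7 (rword cs (π (b⁻¹ * a))) w).trans (h2 _)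
    rw [wordProd_rword, S.π_mul _ (inv_mem (hN₀ hb)) _ (hN₀ ha), S.π_inv (hN₀ hb), mul_assoc,
      mul_inv_cancel_right] at h8
    refine Sm.cancel h4.norm_eq ((h8.sub (h4.mul_right (dl1_mem (w * (π b)⁻¹)))).of_eq ?_)
    rw [mul_sub, mul_inv_cancel_left₀ h5, S.π_mul _ (inv_mem (hN₀ hb)) _ (hN₀ ha), S.π_inv (hN₀ hb)]
    ring

theorem Cl.av (hf : Cl ψ U T N₀ π Λ f) {b : Y} (hb : b ∈ N₀) : Cl ψ U T N₀ π Λ (av U b f) where
  ex := ⟨b, hb, good_av S hQ hN₀ hn₀ hrk hΛ hq hf hb⟩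
  right t ht g := by
    have h1 := S.conj_T' (hN₀ hb) ht
    unfold Lift.av avn
    rw [mul_left_comm, Finset.mul_sum _ _ (Λ t), ← sum_hom (α := fun u => (b⁻¹ * t * b) * u * (b⁻¹ * t * b)⁻¹)
      (fun _ _ e => mul_left_cancel (mul_right_cancel e)) (fun u hu => S.T_norm _ h1 u hu)
      fun u => Λ t * f (g * b * u * b⁻¹)]
    congr 1
    refine Finset.sum_congr rfl fun u _ => ?_
    rw [← hf.right t ht]
    congr 1; group

theorem av_sm (hf : Cl ψ U T N₀ π Λ f) (hf' : Cl ψ U T N₀ π Λ f') {b : Y} (hb : b ∈ N₀) {g : Y} (hg : g ∈ G) :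
    Sm ψ (av U b f g - av U b f' g) := by
  obtain ⟨φ, h1, h2⟩ := good_av S hQ hN₀ hn₀ hrk hΛ hq hf hb
  obtain ⟨φ', h1', h2'⟩ := good_av S hQ hN₀ hn₀ hrk hΛ hq hf' hb
  obtain ⟨t, ht, w, h3⟩ := exists_val S hN₀ hn₀ (Λ := Λ) (mul_mem hg (S.N_le (hN₀ hb)))
  have h4 := h3 _ _ h1
  have h5 := h3 _ _ h1'
  simp only [mul_inv_cancel_right] at h4 h5
  rw [h4, h5, ← mul_sub]
  exact Sm.mul_left (lin_mem hΛ.lin ht) ((h2 w).trans (h2' w).symm)

omit hQ hrk hq in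
theorem Cl.mem (hf : Cl ψ U T N₀ π Λ f) {g : Y} (hg : g ∈ G) : f g ∈ OO ψ := by
  obtain ⟨a, ha, φ, h1, h2⟩ := hf.ex
  obtain ⟨t, ht, w, h3⟩ := exists_val S hN₀ hn₀ (Λ := Λ) (mul_mem hg (S.N_le (hN₀ ha)))
  have h4 := h3 _ _ h1
  simp only [mul_inv_cancel_right] at h4
  rw [h4]
  exact mul_mem (lin_mem hΛ.lin ht) (by simpa using add_mem (h2 w).mem (dl1_mem (w * (π a)⁻¹)))

section tw

variable {F : MulAut Y} {n₀ a : Y} (hG : ∀ g ∈ G, F g ∈ G) (hT : ∀ t ∈ T, F t ∈ T) (hN : ∀ b ∈ N₀, F b ∈ N₀)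
  (h0 : n₀ ∈ N₀) (hU : ∀ u ∈ U, n₀⁻¹ * F u * n₀ ∈ U) (hΛF : ∀ t ∈ T, Λ (F t) = Λ t) (ha : a⁻¹ * F a ∈ G)

omit S hQ hN₀ hn₀ hrk hΛ hq in
include hN h0 in
theorem aa_mem (i : ℕ) : aa F n₀ i ∈ N₀ := by
  induction i with
  | zero => exact one_mem _
  | succ i ih => exact mul_mem (hN _ ih) h0

omit S hQ hN₀ hn₀ hrk hΛ hq in
include hU in
theorem aa_U (i : ℕ) {u : Y} (hu : u ∈ U) : (aa F n₀ i)⁻¹ * (F ^ i) u * aa F n₀ i ∈ U := by
  induction i with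
  | zero => simpa [aa] using hu
  | succ i ih =>
    convert hU _ ih using 1
    rw [pow_succ_apply, aa, map_mul, map_mul, map_inv]; group

omit S hQ hN₀ hn₀ hrk hΛ hq in
include hU in
theorem av_eq (i : ℕ) (f : Y → ℂ) (g : Y) :
    (Fintype.card U : ℂ) * av U (aa F n₀ i) f g = ∑ u : U, f (g * (F ^ i) u) := by
  unfold av avn
  rw [mul_inv_cancel_left₀ (card_ne_zero U), ← sum_hom (α := fun u => (aa F n₀ i)⁻¹ * (F ^ i) u * aa F n₀ i)
    (fun _ _ e => (F ^ i).injective (mul_left_cancel (mul_right_cancel e))) (fun u hu => aa_U hU i hu)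
    fun u => f (g * aa F n₀ i * u * (aa F n₀ i)⁻¹)]
  refine Finset.sum_congr rfl fun u _ => ?_
  congr 1; group

omit S hQ hN₀ hn₀ hrk hΛ hq in
include hG ha in
theorem P_mem (i : ℕ) {x y : Y} (hx : x ∈ G) (hy : y ∈ G) : (a * x)⁻¹ * (F ^ i) (a * y) ∈ G := by
  have h1 : a⁻¹ * (F ^ i) a ∈ G := by
    induction i with
    | zero => simp
    | succ i ih =>
      convert mul_mem ha (hG _ ih) using 1
      rw [pow_succ_apply, map_mul, map_inv]; group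
  convert mul_mem (mul_mem (inv_mem hx) h1) (pow_maps hG i hy) using 1
  rw [map_mul]; group

omit S hQ hN₀ hn₀ hrk hΛ hq in
include hT hΛF in
theorem Λ_pow (i : ℕ) {t : Y} (ht : t ∈ T) : Λ ((F ^ i) t) = Λ t := by
  induction i with
  | zero => rfl
  | succ i ih => rw [pow_succ_apply, hΛF _ (pow_maps hT i ht), ih]

include hN h0 in
theorem cl_ff (i : ℕ) : Cl ψ U T N₀ π Λ (ff U F n₀ (idc U T Λ) i) := by
  induction i with
  | zero => exact cl_idc S hN₀ hΛ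
  | succ i ih => exact ih.av S hQ hN₀ hn₀ hrk hΛ hq (aa_mem hN h0 _)

omit hQ hN₀ hn₀ hrk hq in
include hT hΛF in
theorem sum_diag [Fintype (G ⧸ T.subgroupOf G)] (hf : Cl ψ U T N₀ π Λ f) (i : ℕ) :
    ∑ x : G, f ((a * x)⁻¹ * (F ^ i) (a * x)) =
      Fintype.card T * ∑ x : G ⧸ T.subgroupOf G, f ((a * x.out)⁻¹ * (F ^ i) (a * x.out)) := by
  rw [sum_quot (T.subgroupOf G) (fun x => f ((a * x)⁻¹ * (F ^ i) (a * x))) fun x t ht => ?_,
    Nat.card_congr (Subgroup.subgroupOfEquivOfLe (S.T_le.trans S.N_le)).toEquiv, Nat.card_eq_fintype_card]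
  have ht' : (t : Y) ∈ T := ht
  have h1 : (a * (x * t : G))⁻¹ * (F ^ i) (a * (x * t : G)) =
      (t : Y)⁻¹ * ((a * x)⁻¹ * (F ^ i) (a * x) * (F ^ i) t) := by
    rw [Subgroup.coe_mul, ← mul_assoc a, map_mul _ (a * x)]; group
  rw [h1, hf.left (inv_mem ht'), hf.right _ (pow_maps hT i ht'), Λ_pow hT hΛF i ht', ← mul_assoc,
    mul_comm (Λ _), hΛ.lin.mul_inv ht', one_mul]

omit hQ hN₀ hn₀ hrk hΛ hq in
include hU in
theorem sum_av (hf : Cl ψ U T N₀ π Λ f) (i : ℕ) :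
    ∑ x : G, av U (aa F n₀ i) f ((a * x)⁻¹ * (F ^ i) (a * x)) = ∑ x : G, f ((a * x)⁻¹ * (F ^ i) (a * x)) := by
  refine mul_left_cancel₀ (card_ne_zero U) ?_
  rw [Finset.mul_sum, Finset.sum_congr rfl fun x _ => av_eq hU i f _, Finset.sum_comm,
    Finset.sum_congr rfl fun (u : U) _ => show _ = ∑ x : G, f ((a * x)⁻¹ * (F ^ i) (a * x)) from ?_,
    Finset.sum_const, Finset.card_univ, nsmul_eq_mul]
  rw [← sum_mul_right (K := G) (fun x => f ((a * x)⁻¹ * (F ^ i) (a * x))) (S.U_le u.2)]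
  refine Finset.sum_congr rfl fun x _ => ?_
  rw [← hf.leftU (inv_mem u.2), ← mul_assoc a, map_mul _ (a * x)]
  congr 1; group

omit hQ hn₀ hrk hq in
include hG hT hU hΛF ha in
theorem sum_step [Fintype (G ⧸ T.subgroupOf G)] (hf : Cl ψ U T N₀ π Λ f) (i : ℕ) (x : Y) {y : Y} (hy : y ∈ G) :
    ∑ z : G ⧸ T.subgroupOf G, f (x * (F ^ i) (a * z.out)) * idc U T Λ ((a * z.out)⁻¹ * F (a * y)) =
      Fintype.card U * av U (aa F n₀ i) f (x * (F ^ (i + 1)) (a * y)) := by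
  classical
  have hb := P_mem hG ha 1 (one_mem G) hy
  rw [pow_one, mul_one] at hb
  refine mul_left_cancel₀ (card_ne_zero T) ?_
  rw [← Nat.card_eq_fintype_card, ← Nat.card_congr (Subgroup.subgroupOfEquivOfLe (S.T_le.trans S.N_le)).toEquiv,
    ← sum_quot (T.subgroupOf G) (fun z => f (x * (F ^ i) (a * z)) * idc U T Λ ((a * z)⁻¹ * F (a * y))) fun z t ht => ?_,
    Nat.card_congr (Subgroup.subgroupOfEquivOfLe (S.T_le.trans S.N_le)).toEquiv, av_eq hU,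
    ← sum_mul_left (K := G) (fun z => f (x * (F ^ i) (a * z)) * idc U T Λ ((a * z)⁻¹ * F (a * y))) hb,
    ← sum_inv (K := G) fun z => f (x * (F ^ i) (a * (a⁻¹ * F (a * y) * z))) *
      idc U T Λ ((a * (a⁻¹ * F (a * y) * z))⁻¹ * F (a * y))]
  · have h1 : ∀ z : Y, (a * (a⁻¹ * F (a * y) * z⁻¹))⁻¹ * F (a * y) = z := fun z => by group
    have h2 : ∀ z : Y, x * (F ^ i) (a * (a⁻¹ * F (a * y) * z⁻¹)) = x * (F ^ (i + 1)) (a * y) * (F ^ i) z⁻¹ :=
      fun z => by rw [← mul_assoc a, mul_inv_cancel_left, map_mul, pow_comm_apply, pow_succ_apply, mul_assoc]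
    simp only [h1, h2, idc, Finset.mul_sum]
    rw [Finset.sum_comm, Nat.card_eq_fintype_card, ← Finset.mul_sum, ← nsmul_eq_mul, ← Finset.card_univ,
      ← Finset.sum_const]
    refine Finset.sum_congr rfl fun τ _ => ?_
    rw [← sum_mul_right (K := G) (fun z => f (x * (F ^ (i + 1)) (a * y) * (F ^ i) z⁻¹) *
      if z * (τ : Y)⁻¹ ∈ U then Λ τ else 0) (S.N_le (S.T_le τ.2)),
      ← sum_inv (K := U) fun u => f (x * (F ^ (i + 1)) (a * y) * (F ^ i) u),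
      ← sum_hom (U := U) (α := fun u => (τ : Y)⁻¹ * u * τ) (fun _ _ e => mul_left_cancel (mul_right_cancel e))
        (fun u hu => S.T_norm' τ.2 hu) fun u => f (x * (F ^ (i + 1)) (a * y) * (F ^ i) u⁻¹)]
    simp only [mul_inv_cancel_right, mul_ite, mul_zero]
    rw [← Finset.sum_filter]
    symm
    refine Finset.sum_bij (fun u _ => (⟨u, S.U_le u.2⟩ : G)) (fun u _ => by simp) (fun u _ v _ e => Subtype.ext
      (congrArg (fun z : G => (z : Y)) e)) (fun z hz => ⟨⟨z, (Finset.mem_filter.1 hz).2⟩, by simp, rfl⟩) fun u _ => ?_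
    rw [mul_comm _ (Λ τ), ← Λ_pow hT hΛF i τ.2, ← hf.right _ (pow_maps hT i τ.2)]
    congr 1
    simp only [map_mul, map_inv, mul_inv_rev]; group
  · have ht' : (t : Y) ∈ T := ht
    have h1 : (a * (z * t : G))⁻¹ * F (a * y) = (t : Y)⁻¹ * ((a * z)⁻¹ * F (a * y)) := by
      rw [Subgroup.coe_mul]; group
    rw [h1, (cl_idc (ψ := ψ) S hN₀ hΛ).left (inv_mem ht'), Subgroup.coe_mul, ← mul_assoc a, map_mul _ (a * z),
      ← mul_assoc x, hf.right _ (pow_maps hT i ht'), Λ_pow hT hΛF i ht']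
    linear_combination (f (x * (F ^ i) (a * z)) * idc U T Λ ((a * z)⁻¹ * F (a * y))) * hΛ.lin.mul_inv ht'

include hG hT hN h0 hU hΛF ha in
/-- **the congruence at a finite level** -/
theorem level {l : ℕ} [Fact l.Prime] (hl : ‖(l : E)‖ < 1) (hΛl : ∀ t ∈ T, Λ t ^ l = Λ t)
    (hcU : Sm ψ ((Fintype.card U : ℂ) - 1)) :
    Sm ψ ((Fintype.card T : ℂ)⁻¹ * ∑ x : G, idc U T Λ ((a * x)⁻¹ * (F ^ l) (a * x)) -
      (Fintype.card T : ℂ)⁻¹ * ∑ x : G, idc U T Λ ((a * x)⁻¹ * F (a * x))) := by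
  classical
  have := Fintype.ofFinite (G ⧸ T.subgroupOf G)
  have hp : l.Prime := Fact.out
  have c0 : Cl ψ U T N₀ π Λ (idc U T Λ) := cl_idc S hN₀ hΛ
  have ci := cl_ff S hQ hN₀ hn₀ hrk hΛ hq hN h0
  let k : Matrix (G ⧸ T.subgroupOf G) (G ⧸ T.subgroupOf G) ℂ := fun x y => idc U T Λ ((a * x.out)⁻¹ * F (a * y.out))
  have hk : ∀ i x y, (k ^ (i + 1)) x y =
      (Fintype.card U : ℂ) ^ i * ff U F n₀ (idc U T Λ) i ((a * x.out)⁻¹ * (F ^ (i + 1)) (a * y.out)) := by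
    intro i
    induction i with
    | zero => intro x y; rw [zero_add, pow_one, pow_one, pow_zero, one_mul]; rfl
    | succ i ih =>
      intro x y
      rw [pow_succ, Matrix.mul_apply]
      simp only [ih, k, mul_assoc ((Fintype.card U : ℂ) ^ i)]
      rw [← Finset.mul_sum, sum_step S hN₀ hΛ hG hT hU hΛF ha (ci i) (i + 1) _ y.out.2, ff, ← mul_assoc, ← pow_succ]
  have h1 := trace_pow_sm hl k fun x y => c0.mem S hN₀ hn₀ hΛ (by simpa using P_mem hG ha 1 x.out.2 y.out.2)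
  obtain ⟨j, rfl⟩ : ∃ j, l = j + 1 := ⟨l - 1, by have := hp.pos; omega⟩
  have h2 : ∀ x, k x x ^ (j + 1) = k x x := fun x => by
    obtain ⟨t, ht, w, h3⟩ := exists_val S hN₀ hn₀ (Λ := Λ) (P_mem hG ha 1 x.out.2 x.out.2)
    have h4 := h3 _ _ (S.good_idc hN₀ hΛ.lin hΛ.triv)
    rw [pow_one] at h4
    simp only [k, h4, mul_pow, hΛl t ht, dl1]
    split_ifs <;> simp
  have h3 := sum_diag S hΛ hT hΛF (a := a) c0 1
  have h4 := fun f hf => (sum_av S hU (a := a) (f := f) hf (j + 1)).symm.trans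
    (sum_diag S hΛ hT hΛF (hf.av S hQ hN₀ hn₀ hrk hΛ hq (aa_mem hN h0 (j + 1))) (j + 1))
  have h5 := h4 _ (ci j)
  rw [sum_diag S hΛ hT hΛF (ci j), mul_right_inj' (card_ne_zero T)] at h5
  rw [pow_one] at h3
  rw [h3, h4 _ c0, inv_mul_cancel_left₀ (card_ne_zero T), inv_mul_cancel_left₀ (card_ne_zero T)]
  simp only [h2, Matrix.trace, Matrix.diag, hk] at h1
  rw [← Finset.mul_sum, h5] at h1
  have h6 := Sm.sum Finset.univ fun (x : G ⧸ T.subgroupOf G) _ => av_sm S hQ hN₀ hn₀ hrk hΛ hq c0 (ci j)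
    (aa_mem hN h0 (j + 1)) (P_mem hG ha (j + 1) x.out.2 x.out.2)
  have h7 := (hcU.pow_sub_one j).mul_right (sum_mem (t := Finset.univ) fun (x : G ⧸ T.subgroupOf G) _ =>
    ((ci j).av S hQ hN₀ hn₀ hrk hΛ hq (aa_mem hN h0 (j + 1))).mem S hN₀ hn₀ hΛ (P_mem hG ha (j + 1) x.out.2 x.out.2))
  rw [Finset.sum_sub_distrib] at h6
  exact ((h6.add h1).sub h7).of_eq (by simp only [k]; ring)

end tw

end Cfsg.Agent.LV.Lift
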