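import Cfsg.Agent.LV.Lift.B
import Cfsg.Agent.DL.PP.Cor
import Cfsg.Agent.DL.Asm.Sys

/-!
# LV, lifting theorem, part C: restriction of Deligne-Lusztig characters from `G ^ (F ^ l)` to `G ^ F` (helper12)

`RV_congr` : `R_T^(l) (θ ∘ N)` and `R_T θ` agree on `G ^ F` modulo a prime over `l`, if `θ ^ l = θ`.
-/

set_option autoImplicit false
set_option linter.unusedSectionVars false

namespace Cfsg.Agent.LV.Lift

open CoxeterSystem Cfsg.Agent.DL Cfsg.Agent.DL.Mk Cfsg.Agent.DL.Lef Filter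

section transport

variable {Y : Type*} [Group Y] {F : MulAut Y} {M Q m : ℕ} {G U T K : Subgroup Y}

theorem nrm_nrm (A : Tor F M Q T) (l r : ℕ) {t : Y} (ht : t ∈ T) : nrm F l (nrm (F ^ l) r t) = nrm F (l * r) t := by
  have h1 : ∀ r, nrm (F ^ l) r t ∈ T := fun r => by
    induction r with
    | zero => exact one_mem _
    | succ r ih => rw [nrm_succ]; exact mul_mem ih (pow_maps (fun _ h => pow_maps A.maps l h) r ht)
  induction r with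
  | zero => rw [nrm_zero, nrm_one, mul_zero, nrm_zero]
  | succ r ih =>
    rw [nrm_succ, A.nrm_mul l (h1 r) (pow_maps (fun _ h => pow_maps A.maps l h) r ht), ih, Nat.mul_succ, nrm_add,
      ← pow_mul]
    congr 1
    induction l with
    | zero => simp [nrm_zero]
    | succ l _ =>
      generalize (l + 1) * r = s
      generalize l + 1 = j
      induction j with
      | zero => simp [nrm_zero]
      | succ j ih => rw [nrm_succ, nrm_succ, ih, map_mul, ← MulAut.mul_apply, ← MulAut.mul_apply, pow_mul_comm]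

theorem tor_pow (A : Tor F M Q T) {l d : ℕ} (h : l * d = M) : Tor (F ^ l) d Q T :=
  ⟨A.two_le, A.comm, fun _ ht => pow_maps A.maps l ht, fun t ht => by rw [← pow_mul, h, A.frob t ht], A.div⟩

theorem transport (A : Tor F M Q T) (hm : 0 < m) {σ : MulAut Y} (hσ : (F ^ M) ^ m = σ) (hK : ∀ t, t ∈ K ↔ t ∈ T ∧ F t = t)
    (hTG : T ≤ G) (hTU : ∀ t ∈ T, ∀ u ∈ U, t * u * t⁻¹ ∈ U) {g a : Y} (hg : F g = g) (ha : a ∈ G) (haσ : σ a = g * a)
    [Fintype K] [Fintype ↥(G ⊓ Mk.fix σ)] [Fintype ↥(T ⊓ Mk.fix σ)] (θ : Y → ℂ) {Λ : Y → ℂ}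
    (hΛ : ∀ t ∈ T, Λ t = θ (nrm F (M * m) t)) :
    (Nat.card K : ℂ)⁻¹ * ∑ t : K, (CF.cnt F.toMonoidHom σ.toMonoidHom G U g t : ℂ) * θ t =
      (Fintype.card ↥(T ⊓ Mk.fix σ) : ℂ)⁻¹ *
        ∑ x : ↥(G ⊓ Mk.fix σ), idc (U ⊓ Mk.fix σ) (T ⊓ Mk.fix σ) Λ ((a * x)⁻¹ * F (a * x)) := by
  classical
  have hc : ∀ y, σ (F y) = F (σ y) := fun y => by rw [← hσ, pow_pow_comm_apply]
  have hσT : ∀ t ∈ T, σ t ∈ T := fun t ht => hσ ▸ pow_maps (fun _ h => pow_maps A.maps M h) m ht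
  have key : ∀ τ : ↥(T ⊓ Mk.fix σ), (CF.cnt F.toMonoidHom σ.toMonoidHom G U g (nrm F (M * m) τ) : ℂ) =
      ∑ x : ↥(G ⊓ Mk.fix σ), if (a * x)⁻¹ * F (a * x) * (τ : Y)⁻¹ ∈ U ⊓ Mk.fix σ then 1 else 0 := by
    rintro ⟨τ, hτ, hτσ⟩
    obtain ⟨b, hb, rfl⟩ := A.lang hτ
    have h1 : σ b * (nrm F (M * m) (b * (F b)⁻¹)) = b := by
      rw [nrm_lang, pow_mul, hσ, ← mul_assoc, A.comm _ (hσT b hb) _ hb, mul_inv_cancel_right]
    set t := nrm F (M * m) (b * (F b)⁻¹) with ht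
    have h2 : σ b = b * t⁻¹ := eq_mul_inv_of_mul_eq h1
    rw [Finset.sum_boole, ← Fintype.card_subtype, ← Nat.card_eq_fintype_card]
    congr 1
    refine Nat.card_congr ⟨fun z => ⟨⟨a⁻¹ * z * b⁻¹,
      mkfx (mul_mem (mul_mem (inv_mem ha) z.2.1) (inv_mem (hTG hb))) ?_⟩, mkfx ?_ ?_⟩,
      fun x => ⟨a * x * b, mul_mem (mul_mem ha x.1.2.1) (hTG hb), ?_, ?_⟩, fun z => Subtype.ext (by simp [mul_assoc]),
      fun x => Subtype.ext (Subtype.ext (by simp [mul_assoc]))⟩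
    · have h3 : σ z = g * z * t⁻¹ := z.2.2.2
      show σ (a⁻¹ * z * b⁻¹) = a⁻¹ * z * b⁻¹
      rw [map_mul, map_mul, map_inv, map_inv, haσ, h3, h2]; group
    · convert hTU b hb _ z.2.2.1 using 1
      simp only [mul_assoc, mul_inv_cancel_left, map_mul, map_inv, MulEquiv.coe_toMonoidHom]; group
    · have h3 : σ z = g * z * t⁻¹ := z.2.2.2
      have h4 : σ (a * (a⁻¹ * z * b⁻¹)) = g * (a * (a⁻¹ * z * b⁻¹)) := by
        rw [map_mul, map_mul, map_mul, map_inv, map_inv, haσ, h3, h2]; group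
      refine mul_mem (show _ ∈ Mk.fix σ from ?_) (inv_mem (show _ ∈ Mk.fix σ from hτσ))
      rw [Mk.mem_fix, map_mul, map_inv, hc, h4, map_mul F g, hg]; group
    · have h3 := hTU _ (inv_mem hb) _ x.2.1
      show (a * x * b)⁻¹ * F (a * x * b) ∈ U
      convert h3 using 1
      rw [map_mul _ (_ * _)]; group
    · show σ (a * x * b) = g * (a * x * b) * t⁻¹
      rw [map_mul, map_mul, haσ, h2, show σ x = x from x.1.2.2]; group
  have h1 := sum_comp_surj (A := T ⊓ Mk.fix σ) (B := K) (ν := nrm F (M * m))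
    (fun τ hτ => (hK _).2 ⟨A.nrm_mem _ hτ.1, A.nrm_fix _ hτ.1 (by rw [pow_mul, hσ]; exact hτ.2)⟩)
    (fun s hs t ht => A.nrm_mul _ hs.1 ht.1) (fun t ht => by
      obtain ⟨r, hr, h1, h2⟩ := A.nrm_surj hm ((hK t).1 ht).1 ((hK t).1 ht).2
      exact ⟨r, ⟨hr, hσ ▸ h1⟩, h2⟩) fun t => (CF.cnt F.toMonoidHom σ.toMonoidHom G U g t : ℂ) * θ t
  have h2 : ∑ x : ↥(G ⊓ Mk.fix σ), idc (U ⊓ Mk.fix σ) (T ⊓ Mk.fix σ) Λ ((a * x)⁻¹ * F (a * x)) =
      ∑ τ : ↥(T ⊓ Mk.fix σ), (CF.cnt F.toMonoidHom σ.toMonoidHom G U g (nrm F (M * m) τ) : ℂ) * θ (nrm F (M * m) τ) := by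
    simp only [idc, key, Finset.sum_mul]
    rw [Finset.sum_comm]
    refine Finset.sum_congr rfl fun τ _ => Finset.sum_congr rfl fun x _ => ?_
    rw [hΛ _ τ.2.1]
    split_ifs <;> simp
  have h3 := Mk.card_ne_zero K
  have h4 := Mk.card_ne_zero (T ⊓ Mk.fix σ)
  rw [h2, Nat.card_eq_fintype_card]
  field_simp
  linear_combination -h1

end transport

variable {E : Type*} [NormedField E] [IsUltrametricDist E] {ψ : ℂ →+* E}

section frame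

variable {I W Y k : Type*} [Group W] [Group Y] [Field k] {M : CoxeterMatrix I}
  {cs : CoxeterSystem M W} {G U T N : Subgroup Y} {π : Y → W} {n : I → Y} {X : I → Subgroup Y}
  {F : MulAut Y} {e Q d : ℕ} {n₀ : Y} {x : I → k → Y} {α : I → kˣ →* Y}
  (A : Frame cs G U T N π n X F e Q d n₀ x α)

include A in
theorem frame_level {l r m : ℕ} [Fact l.Prime] (hl : ‖(l : E)‖ < 1) (hr : l * r = e) (hm : 0 < m)
    (hd : Nat.card ↥(T ⊓ Mk.fix (F ^ e)) ∣ m) (hq : Sm ψ ((Q : ℂ) ^ m - 1)) {K K' : Subgroup Y} [Fintype K] [Fintype K']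
    (hK : ∀ t, t ∈ K ↔ t ∈ T ∧ F t = t) (hK' : ∀ t, t ∈ K' ↔ t ∈ T ∧ (F ^ l) t = t) {θ : Y → ℂ} (hθ : Lin K θ)
    (hθl : ∀ t ∈ K, θ t ^ l = θ t) {g a : Y} (hg : F g = g) (ha : a ∈ G) (haσ : ((F ^ e) ^ m) a = g * a) :
    Sm ψ ((Nat.card K' : ℂ)⁻¹ * ∑ t : K', (CF.cnt (F ^ l).toMonoidHom ((F ^ e) ^ m).toMonoidHom G U g t : ℂ) *
        θ (nrm F l t) -
      (Nat.card K : ℂ)⁻¹ * ∑ t : K, (CF.cnt F.toMonoidHom ((F ^ e) ^ m).toMonoidHom G U g t : ℂ) * θ t) := by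
  classical
  have S := A.level m
  have hfin := A.fin m hm
  have fin : ∀ {L : Subgroup Y}, L ≤ G ⊓ Mk.fix ((F ^ e) ^ m) → Finite L := fun h =>
    Finite.of_injective _ (Subgroup.inclusion_injective h)
  have := fin S.U_le
  have := fin (S.T_le.trans S.N_le)
  have : ∀ i, Finite ↥(X i ⊓ Mk.fix ((F ^ e) ^ m)) := fun i => fin ((S.X_le i).trans S.U_le)
  have := Fintype.ofFinite ↥(G ⊓ Mk.fix ((F ^ e) ^ m))
  have := Fintype.ofFinite ↥(U ⊓ Mk.fix ((F ^ e) ^ m))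
  have := Fintype.ofFinite ↥(T ⊓ Mk.fix ((F ^ e) ^ m))
  have : ∀ i, Fintype ↥(X i ⊓ Mk.fix ((F ^ e) ^ m)) := fun i => Fintype.ofFinite _
  obtain ⟨tt, t1, t2⟩ := A.exists_tt
  have k1 : ∀ j, ∀ s ∈ T, (F ^ j) s = s → nrm F j s ∈ K := fun j s hs h =>
    (hK _).2 ⟨A.tor.nrm_mem _ hs, A.tor.nrm_fix _ hs h⟩
  have k2 : ∀ s ∈ T ⊓ Mk.fix ((F ^ e) ^ m), nrm F (e * m) s ∈ K := fun s hs => k1 _ s hs.1 (by rw [pow_mul]; exact hs.2)
  have a₁ := A.adm t1 hm hd (lam := fun t => θ (nrm F e t)) (Λ := fun t => θ (nrm F (e * m) t))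
    ⟨by rw [nrm_one, hθ.one], fun s hs t ht => by
      rw [A.tor.nrm_mul _ hs.1 ht.1, hθ.mul _ (k1 _ s hs.1 hs.2) _ (k1 _ t ht.1 ht.2)]⟩
    fun t ht => by rw [A.tor.nrm_level m ht.1]
  have hFσ : ∀ y ∈ Mk.fix ((F ^ e) ^ m), F y ∈ Mk.fix ((F ^ e) ^ m) := fun y hy => by
    rw [Mk.mem_fix, pow_pow_comm_apply, Mk.mem_fix.1 hy]
  have h0 : n₀ ∈ Mk.fix ((F ^ e) ^ m) := pow_fix A.σn₀ m
  have hTG := A.sbn.T_le.trans A.sbn.N_le
  rw [transport A.tor hm rfl hK hTG A.sbn.T_norm hg ha haσ θ (Λ := fun t => θ (nrm F (e * m) t)) fun _ _ => rfl,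
    transport (tor_pow A.tor hr) hm (by rw [← pow_mul F l r, hr]) hK' hTG A.sbn.T_norm (pow_fix hg l) ha haσ
      (fun t => θ (nrm F l t)) (Λ := fun t => θ (nrm F (e * m) t)) fun t ht => by
        rw [nrm_nrm A.tor l _ ht, ← mul_assoc, hr]]
  refine level S (Q := Q ^ m) (fun i => by rw [← Nat.card_eq_fintype_card, A.card_X hm])
    (N₀ := N ⊓ Mk.fix (F ^ e)) (inf_le_inf_left _ (fix_le_pow _ m)) (fun i => mkfx (A.sbn.n_mem i) (A.σn i))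
    (A.hrk t1 t2 m) a₁ (by rwa [Nat.cast_pow]) (n₀ := n₀) (fun y hy => mkfx ((A.FG y).2 hy.1) (hFσ y hy.2))
    (fun y hy => mkfx (A.tor.maps y hy.1) (hFσ y hy.2))
    (fun y hy => mkfx (A.FN y hy.1) (by rw [Mk.mem_fix, pow_comm_apply, Mk.mem_fix.1 (mfx hy)]))
    (mkfx A.n₀_mem A.σn₀) (fun u hu => mkfx (A.FU u hu.1) (mul_mem (mul_mem (inv_mem h0) (hFσ u hu.2)) h0))
    (fun t ht => ?_) (mkfx (mul_mem (inv_mem ha) ((A.FG a).2 ha)) ?_) hl (fun t ht => hθl _ (k2 t ht)) ?_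
  · have h1 : ∀ j, nrm F j (F t) = F (nrm F j t) := fun j => by
      induction j with
      | zero => simp [nrm_zero]
      | succ j ih => rw [nrm_succ, nrm_succ, ih, map_mul, pow_comm_apply]
    show θ (nrm F (e * m) (F t)) = θ (nrm F (e * m) t)
    rw [h1, ((hK _).1 (k2 t ht)).2]
  · rw [Mk.mem_fix, map_mul, map_inv, pow_pow_comm_apply, haσ, map_mul, hg]; group
  · rw [← Nat.card_eq_fintype_card, A.cardU m hm, Nat.cast_pow, Nat.cast_pow]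
    exact hq.pow_sub_one d

end frame

open Cfsg.Agent.DL.Asm Cfsg.Agent.DL.Uni Cfsg.Agent.Nodes.Reps

variable {p : ℕ} [Fact p.Prime] {k : Type} [Field k] [CharP k p] [IsAlgClosed k] {Y : Type} [Group Y] {N : Type}
  [Fintype N] [DecidableEq N] {ρ : Y →* GL N k} {F : MulAut Y} {G : Subgroup Y}

theorem split_pow (D : Datum p ρ F G) {l d e : ℕ} (hl : 0 < l) (H : D.Split (l * d) e) : (D.pow hl).Split d e :=
  ⟨Nat.pos_of_mul_pos_left H.d_pos, H.e_pos, H.dvd, fun y => by rw [← pow_mul]; exact H.frob y,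
    fun a ha u => by rw [← pow_mul]; exact H.x a ha u, fun c => by rw [← pow_mul]; exact H.τ c,
    fun i => by rw [← pow_mul]; exact H.n i⟩

theorem lev_one (D : Datum p ρ F G) {d e : ℕ} (H : D.Split d e) : Lev D D.T D.U d e :=
  ⟨H, 1, one_mem _, (cj_one _).symm, (cj_one _).symm, D.map_T, map_one _⟩

theorem lInd_cmp {l : ℕ} [Fact l.Prime] (hlp : l ≠ p) (ψ : ℂ →+* ℂ_[l]) {D : Datum p ρ F G} {T V : Subgroup Y} {d e : ℕ}
    (h : Lev D T V d e) [Fintype ↥(T ⊓ GF F G)] (θ : Y → ℂ) (g : GF F G) :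
    LInd ψ fun m => Asm.cmp (GF F G) (T ⊓ GF F G) (cn F G V d) θ m g :=
  (LInd.sum Finset.univ fun t _ => ((h.pInd Mk.mackey g.2 t.2).2 l hlp ψ).mul_const _).smul _

theorem sm_pow_factorial {l : ℕ} [Fact l.Prime] (ψ : ℂ →+* ℂ_[l]) {Q : ℕ} (hQ : ¬ l ∣ Q) {m : ℕ} (hm : l - 1 ∣ m) :
    Sm ψ ((Q : ℂ) ^ m - 1) := by
  obtain ⟨j, rfl⟩ := hm
  have h1 : ((l : ℕ) : ℤ) ∣ (Q : ℤ) ^ (l - 1) - 1 :=
    (ZMod.intCast_zmod_eq_zero_iff_dvd _ l).1 (by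
      push_cast
      rw [ZMod.pow_card_sub_one_eq_one (fun h => hQ ((ZMod.natCast_eq_zero_iff _ _).1 h)), sub_self])
  obtain ⟨c, hc⟩ := h1
  have h2 : (Q : ℂ) ^ (l - 1) - 1 = l * c := by exact_mod_cast hc
  rw [pow_mul]
  refine Sm.pow_sub_one ?_ j
  rw [h2]
  exact Sm.mul_right (by simpa [Sm] using padicComplex_norm_lt_one l) (intCast_mem _ c)

/-- **(L2), (L6)** for the standard torus -/
theorem RV_congr (D : Datum p ρ F G) {l : ℕ} [Fact l.Prime] (hlp : l ≠ p) (ψ : ℂ →+* ℂ_[l]) {θ : Y → ℂ}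
    (hθ : IsLin (D.T ⊓ GF F G) θ) (hθl : ∀ t ∈ D.T ⊓ GF F G, θ t ^ l = θ t) {g : Y} (hg : g ∈ GF F G) :
    Sm ψ (RV (F ^ l) G D.T D.U (fun t => θ (nrm F l t)) g - RV F G D.T D.U θ g) := by
  have hl : l.Prime := Fact.out
  obtain ⟨d, e, H₀⟩ := D.exists_split'
  have H : D.Split (l * d) (e * l) := by rw [mul_comm l]; exact H₀.mul hl.pos
  obtain ⟨n₀, h1, h2⟩ := H.exists_rp D.wF
  have A := frame D H h1 h2
  have L := lev_one D H
  have L' := lev_one (D.pow hl.pos) (split_pow D hl.pos H)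
  have := finite_GF D
  have := finite_GF (D.pow hl.pos)
  have := finite_inf_GF D D.T
  have := finite_inf_GF (D.pow hl.pos) D.T
  have := Fintype.ofFinite (GF F G)
  have := Fintype.ofFinite (GF (F ^ l) G)
  have := Fintype.ofFinite ↥(D.T ⊓ GF F G)
  have := Fintype.ofFinite ↥(D.T ⊓ GF (F ^ l) G)
  have hg' : g ∈ GF (F ^ l) G := ⟨hg.1, pow_fix hg.2 l⟩
  have e1 := congrFun (L.isInd.res_eq θ) ⟨g, hg⟩
  have e2 := congrFun (L'.isInd.res_eq fun t => θ (nrm F l t)) ⟨g, hg'⟩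
  refine (sm_lef (lInd_cmp hlp ψ L' (fun t => θ (nrm F l t)) ⟨g, hg'⟩) (lInd_cmp hlp ψ L θ ⟨g, hg⟩) ?_).of_eq
    (congrArg₂ (· - ·) e2.symm e1.symm)
  have hfin := A.fin 1 one_pos
  rw [pow_one] at hfin
  have : Finite ↥(D.T ⊓ Mk.fix (F ^ (l * d))) := Finite.of_injective _
    (Subgroup.inclusion_injective (inf_le_inf_right _ D.T_le_G : _ ≤ G ⊓ Mk.fix (F ^ (l * d))))
  refine (eventually_ge_atTop (Nat.card ↥(D.T ⊓ Mk.fix (F ^ (l * d))) + l)).mono fun j hj => ?_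
  obtain ⟨c, hc, h3⟩ := (D.pow (Nat.mul_pos H.d_pos j.factorial_pos)).lang_G (inv_mem hg.1)
  have h4 := frame_level (ψ := ψ) A (padicComplex_norm_lt_one l) rfl j.factorial_pos
    (Nat.dvd_factorial Nat.card_pos (by omega))
    (sm_pow_factorial ψ (fun h => hlp ((Nat.prime_dvd_prime_iff_eq hl Fact.out).1 (hl.dvd_of_dvd_pow h)))
      (Nat.dvd_factorial (by have := hl.two_le; omega) (by omega)))
    (K := D.T ⊓ GF F G) (K' := D.T ⊓ GF (F ^ l) G)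
    (fun t => ⟨fun h => ⟨h.1, h.2.2⟩, fun h => ⟨h.1, D.T_le_G h.1, h.2⟩⟩)
    (fun t => ⟨fun h => ⟨h.1, h.2.2⟩, fun h => ⟨h.1, D.T_le_G h.1, h.2⟩⟩) ⟨hθ.one, hθ.mul⟩ hθl hg.2 (inv_mem hc)
    (by rw [← pow_mul, map_inv, eq_mul_inv_iff_mul_eq, ← inv_inj, h3]; group)
  refine h4.of_eq ?_
  simp only [Asm.cmp, cn, CF.cntF, ← pow_mul, mul_assoc]

end Cfsg.Agent.LV.Lift
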